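import Groth.Agent.ValTate.Graded
import Groth.Agent.AdicRing.ComplHom
import Groth.Prelude.Def_W4bk4boschfrg79

/-!
# Algebras of finite type over topologically finite type algebras are tame
-/

universe u v

open MvPolynomial

namespace Groth.Agent.ValTate

variable {R : Type u} [CommRing R]

theorem isBase_fg {I : Ideal R} (hR : AdicRing.IsBase R I) : I.FG := by
  rcases hR.2 with ⟨h, -⟩ | ⟨-, -, -, t, -, rfl⟩
  · exact IsNoetherian.noetherian I
  · exact Submodule.fg_span_singleton t

theorem isAdicComplete_rPow (I : Ideal R) (hI : I.FG) (n : ℕ) :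
    IsAdicComplete (I.map (algebraMap R (AdicRing.RPow R I n))) (AdicRing.RPow R I n) := by
  have h := AdicCompletion.isAdicComplete_self (I.map (C : R →+* MvPolynomial (Fin n) R)) (hI.map _)
  rw [Ideal.map_map] at h
  exact h

theorem isNoetherianRing_rPow [IsNoetherianRing R] (I : Ideal R) (n : ℕ) :
    IsNoetherianRing (AdicRing.RPow R I n) :=
  Groth.Agent.AdicRing.isNoetherianRing_completion _ (Ideal.FG.map (IsNoetherian.noetherian I) _)

section Valuation

variable [IsDomain R] [ValuationRing R] [Ring.KrullDimLE 1 R] (t : R) (n : ℕ)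

/-- Reduction of restricted power series modulo `t`. -/
theorem exists_reduction :
    ∃ π : AdicRing.RPow R (Ideal.span {t}) n →+* MvPolynomial (Fin n) (R ⧸ Ideal.span {t}),
      Function.Surjective π ∧
      (∀ r, π (algebraMap R _ r) = C (Ideal.Quotient.mk _ r)) ∧
      RingHom.ker π ≤ Ideal.span {algebraMap R (AdicRing.RPow R (Ideal.span {t}) n) t} := by
  let P := MvPolynomial (Fin n) R
  let K : Ideal P := (Ideal.span {t}).map C
  let q : P →+* MvPolynomial (Fin n) (R ⧸ Ideal.span {t}) := MvPolynomial.map (Ideal.Quotient.mk _)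
  have hq : RingHom.ker q = K := by
    rw [MvPolynomial.ker_map, Ideal.mk_ker]
  have hqs : Function.Surjective q := MvPolynomial.map_surjective _ Ideal.Quotient.mk_surjective
  let q' : P ⧸ K ^ 1 →+* MvPolynomial (Fin n) (R ⧸ Ideal.span {t}) :=
    Ideal.Quotient.lift _ q fun a ha => by
      rw [pow_one, ← hq] at ha
      exact ha
  have hq' : Function.Injective q' := (injective_iff_map_eq_zero _).2 fun y hy => by
    obtain ⟨a, rfl⟩ := Ideal.Quotient.mk_surjective y
    rw [Ideal.Quotient.eq_zero_iff_mem, pow_one, ← hq]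
    exact hy
  refine ⟨q'.comp (AdicCompletion.evalₐ K 1).toRingHom, fun y => ?_, fun r => ?_, fun z hz => ?_⟩
  · obtain ⟨a, rfl⟩ := hqs y
    refine ⟨algebraMap P _ a, ?_⟩
    change q' (AdicCompletion.evalₐ K 1 (algebraMap P _ a)) = q a
    rw [Groth.Agent.FSchLib.evalₐ_algebraMap]
    rfl
  · change q' (AdicCompletion.evalₐ K 1 (algebraMap P _ (C r))) = _
    rw [Groth.Agent.FSchLib.evalₐ_algebraMap]
    exact map_C _ r
  · have h1 : AdicCompletion.evalₐ K 1 z = 0 := hq' (hz.trans (map_zero q').symm)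
    have h2 : z ∈ RingHom.ker (AdicCompletion.evalₐ K 1).toRingHom := h1
    have h3 : RingHom.ker (AdicCompletion.evalₐ K 1).toRingHom = (K.map (algebraMap P _)) ^ 1 :=
      Groth.Agent.FSchLib.ker_evalₐ K (Ideal.FG.map (Submodule.fg_span_singleton t) _) 1
    rw [h3, pow_one, Ideal.map_map, Ideal.map_span, Set.image_singleton] at h2
    exact h2

theorem torsionFree_rPow (ht0 : t ≠ 0) (ht : t ∈ IsLocalRing.maximalIdeal R) (c : R)
    (a : AdicRing.RPow R (Ideal.span {t}) n) (hc : c ≠ 0) (ha : algebraMap R _ c * a = 0) : a = 0 := by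
  let P := MvPolynomial (Fin n) R
  let K : Ideal P := (Ideal.span {t}).map C
  have hK : ∀ j, K ^ j = Ideal.span {(C t : P) ^ j} := fun j => by
    rw [← Ideal.span_singleton_pow]
    exact congrArg (· ^ j) ((Ideal.map_span C {t}).trans (by rw [Set.image_singleton]))
  obtain ⟨k, d, hd⟩ := exists_dvd_pow hc ht
  have hat : algebraMap R (AdicRing.RPow R (Ideal.span {t}) n) (t ^ k) * a = 0 := by
    rw [hd, map_mul, mul_comm (algebraMap R _ c), mul_assoc, ha, mul_zero]
  refine AdicCompletion.ext_evalₐ fun j => ?_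
  obtain ⟨f, hf⟩ := Ideal.Quotient.mk_surjective (AdicCompletion.evalₐ K (j + k) a)
  have h1 := congrArg (AdicCompletion.evalₐ K (j + k)) hat
  rw [show algebraMap R (AdicRing.RPow R (Ideal.span {t}) n) (t ^ k) = algebraMap P _ (C (t ^ k)) from rfl,
    map_mul, Groth.Agent.FSchLib.evalₐ_algebraMap, ← hf, ← map_mul, map_zero, Ideal.Quotient.eq_zero_iff_mem,
    hK, Ideal.mem_span_singleton, map_pow, pow_add, mul_comm ((C t : P) ^ j)] at h1
  have h2 : (C t : P) ^ j ∣ f := (mul_dvd_mul_iff_left (pow_ne_zero _ (by simpa using ht0))).1 h1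
  have h3 : a - algebraMap P _ f ∈ RingHom.ker (AdicCompletion.evalₐ K (j + k)).toRingHom := by
    rw [RingHom.mem_ker]
    change AdicCompletion.evalₐ K (j + k) (a - algebraMap P _ f) = 0
    rw [map_sub, Groth.Agent.FSchLib.evalₐ_algebraMap, hf, sub_self]
  have hKfg : K.FG := Ideal.FG.map (Submodule.fg_span_singleton t) _
  have e3 : RingHom.ker (AdicCompletion.evalₐ K (j + k)).toRingHom = (K.map (algebraMap P _)) ^ (j + k) :=
    Groth.Agent.FSchLib.ker_evalₐ K hKfg (j + k)
  have e4 : RingHom.ker (AdicCompletion.evalₐ K j).toRingHom = (K.map (algebraMap P _)) ^ j :=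
    Groth.Agent.FSchLib.ker_evalₐ K hKfg j
  rw [e3] at h3
  have h4 := Ideal.pow_le_pow_right (Nat.le_add_right j k) h3
  rw [← e4, RingHom.mem_ker] at h4
  change AdicCompletion.evalₐ K j (a - algebraMap P _ f) = 0 at h4
  rw [map_sub, sub_eq_zero] at h4
  rw [map_zero, h4, Groth.Agent.FSchLib.evalₐ_algebraMap]
  rw [Ideal.Quotient.eq_zero_iff_mem, hK, Ideal.mem_span_singleton]
  exact h2

end Valuation

theorem tame_polynomial_rPow (I : Ideal R) (hR : AdicRing.IsBase R I) (n p : ℕ) :
    Tame (I.map (algebraMap R (MvPolynomial (Fin p) (AdicRing.RPow R I n)))) := by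
  obtain ⟨hc, ⟨hN, -⟩ | ⟨hd, hv, hdim, t, ht0, rfl⟩⟩ := hR
  · haveI := isNoetherianRing_rPow I n
    exact tame_of_isNoetherian _
  · haveI : ValuationRing R := { }
    have ht : t ∈ IsLocalRing.maximalIdeal R := by
      intro hu
      have htop : Ideal.span {t} = (⊤ : Ideal R) := Ideal.span_singleton_eq_top.2 hu
      refine one_ne_zero (IsHausdorff.haus hc.toIsHausdorff (1 : R) fun k => ?_)
      rw [SModEq.zero, smul_eq_mul, Ideal.mul_top, htop, Ideal.top_pow]
      exact Submodule.mem_top
    obtain ⟨π, hπs, hπ, hker⟩ := exists_reduction t n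
    have hmap : ∀ {S : Type u} [CommRing S] (φ : R →+* S), (Ideal.span {t}).map φ = Ideal.span {φ t} :=
      fun φ => by rw [Ideal.map_span, Set.image_singleton]
    haveI : IsAdicComplete (Ideal.span {algebraMap R (AdicRing.RPow R (Ideal.span {t}) n) t})
        (AdicRing.RPow R (Ideal.span {t}) n) :=
      hmap (algebraMap R (AdicRing.RPow R (Ideal.span {t}) n)) ▸
        isAdicComplete_rPow (Ideal.span {t}) (Submodule.fg_span_singleton t) n
    refine (hmap (algebraMap R (MvPolynomial (Fin p) (AdicRing.RPow R (Ideal.span {t}) n)))).symm ▸ ?_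
    exact tame_of_saturated_fg t ht0 ht fun m N hN =>
      fg_of_saturated_polynomial t ht0 ht π hπs hπ hker (torsionFree_rPow t n ht0 ht) N hN

/-- An algebra of finite type over a topologically finite type algebra is tame. -/
theorem tame_of_finiteType (I : Ideal R) (hR : AdicRing.IsBase R I) {A : Type v} [CommRing A]
    [Algebra R A] (hA : AdicRing.TopFiniteType R I A) (C : Type*) [CommRing C] [Algebra R C]
    [Algebra A C] [IsScalarTower R A C] [Algebra.FiniteType A C] :
    Tame (I.map (algebraMap R C)) := by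
  obtain ⟨n, φ, hφ⟩ := hA
  obtain ⟨p, g, hg⟩ := Algebra.FiniteType.iff_quotient_mvPolynomial''.1 ‹Algebra.FiniteType A C›
  let f : MvPolynomial (Fin p) (AdicRing.RPow R I n) →+* C :=
    g.toRingHom.comp (MvPolynomial.map φ.toRingHom)
  refine (tame_polynomial_rPow I hR n p).of_surjective f (hg.comp (MvPolynomial.map_surjective _ hφ)) _ ?_
  rw [Ideal.map_map]
  congr 1
  refine RingHom.ext fun r => ?_
  change algebraMap R C r = g (MvPolynomial.map φ.toRingHom (MvPolynomial.C (algebraMap R _ r)))
  rw [MvPolynomial.map_C]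
  change algebraMap R C r = g (algebraMap A (MvPolynomial (Fin p) A) (φ (algebraMap R _ r)))
  rw [φ.commutes, AlgHom.commutes, ← IsScalarTower.algebraMap_apply]

theorem tame_of_topFiniteType (I : Ideal R) (hR : AdicRing.IsBase R I) {A : Type v} [CommRing A]
    [Algebra R A] (hA : AdicRing.TopFiniteType R I A) : Tame (I.map (algebraMap R A)) :=
  tame_of_finiteType I hR hA A

/-- Topologically finite type algebras are complete. -/
theorem isAdicComplete_topFiniteType (I : Ideal R) (hR : AdicRing.IsBase R I) {A : Type v} [CommRing A]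
    [Algebra R A] (hA : AdicRing.TopFiniteType R I A) : IsAdicComplete (I.map (algebraMap R A)) A := by
  obtain ⟨n, φ, hφ⟩ := hA
  haveI := isAdicComplete_rPow I (isBase_fg hR) n
  letI : Algebra (AdicRing.RPow R I n) A := φ.toRingHom.toAlgebra
  haveI : Module.Finite (AdicRing.RPow R I n) A :=
    Module.Finite.of_surjective (Algebra.linearMap _ A) hφ
  have ht : Tame (I.map (algebraMap R (AdicRing.RPow R I n))) :=
    tame_of_finiteType (A := AdicRing.RPow R I n) I hR ⟨n, AlgHom.id R _, Function.surjective_id⟩ _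
  have h := (IsAdicComplete.map_algebraMap_iff (S := A) (I.map (algebraMap R (AdicRing.RPow R I n))) A).2
    ht.isAdicComplete
  rw [Ideal.map_map, show (algebraMap (AdicRing.RPow R I n) A).comp (algebraMap R _) = algebraMap R A from
    RingHom.ext φ.commutes] at h
  exact h

end Groth.Agent.ValTate
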