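import Groth.Agent.ValTate.TopFiniteType
import Mathlib.RingTheory.Flat.Stability
import Mathlib.RingTheory.Flat.Tensor
import Mathlib.LinearAlgebra.TensorProduct.Pi

/-!
# The base ring and its restricted power series
-/

universe u v

open scoped TensorProduct

namespace Groth.Agent.ValTate

variable {R : Type u} [CommRing R] {I : Ideal R}

theorem noPowTorsion_base (hR : AdicRing.IsBase R I) : AdicRing.NoPowTorsion I R := by
  obtain ⟨-, ⟨-, h⟩ | ⟨hd, -, -, t, ht0, rfl⟩⟩ := hR
  · exact h
  · intro x n hx
    have h1 := hx (t ^ n) (Ideal.pow_mem_pow (Ideal.mem_span_singleton_self t) n)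
    exact (mul_eq_zero.1 h1).resolve_left (pow_ne_zero n ht0)

theorem noPowTorsion_of_flat (hR : AdicRing.IsBase R I) (M : Type v) [AddCommGroup M] [Module R M]
    [Module.Flat R M] : AdicRing.NoPowTorsion I M := by
  intro x n hx
  obtain ⟨k, a, ha⟩ := Submodule.fg_iff_exists_fin_generating_family.1 ((isBase_fg hR).pow (n := n))
  let L : R →ₗ[R] (Fin k → R) := LinearMap.pi fun i => a i • LinearMap.id
  have hL : Function.Injective L := (injective_iff_map_eq_zero _).2 fun r hr => noPowTorsion_base hR r n fun b hb => by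
    rw [← ha] at hb
    induction hb using Submodule.span_induction with
    | mem b hb => obtain ⟨i, rfl⟩ := hb; exact congrFun hr i
    | zero => exact zero_smul R r
    | add b c _ _ hb hc => rw [add_smul, hb, hc, add_zero]
    | smul c b _ hb => rw [smul_assoc, hb, smul_zero]
  have h := Module.Flat.lTensor_preserves_injective_linearMap (M := M) L hL
  have h0 : L.lTensor M (x ⊗ₜ[R] (1 : R)) = 0 := by
    refine (TensorProduct.piScalarRight R R M (Fin k)).injective ?_
    rw [LinearMap.lTensor_tmul, map_zero]
    funext i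
    simp only [L, TensorProduct.piScalarRight_apply, TensorProduct.piScalarRightHom_tmul, LinearMap.pi_apply,
      LinearMap.smul_apply, LinearMap.id_apply, Pi.zero_apply, smul_eq_mul, mul_one]
    exact hx (a i) (ha ▸ Submodule.subset_span ⟨i, rfl⟩)
  have h1 := congrArg (TensorProduct.rid R M) (h (h0.trans (map_zero _).symm))
  simpa using h1

theorem topFiniteType_self (hR : AdicRing.IsBase R I) : AdicRing.TopFiniteType R I R := by
  haveI : IsAdicComplete I R := hR.1
  let g : MvPolynomial (Fin 0) R →ₐ[R] R := MvPolynomial.aeval fun i => i.elim0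
  obtain ⟨φ, hφ⟩ := Groth.Agent.AdicRing.exists_completion_hom (I.map (MvPolynomial.C : R →+* MvPolynomial (Fin 0) R)) g.toRingHom I
    (Ideal.map_le_iff_le_comap.2 (Ideal.map_le_iff_le_comap.2 fun r hr => by
      change g (MvPolynomial.C r) ∈ I
      exact ((g.commutes r).trans rfl : g (MvPolynomial.C r) = r).symm ▸ hr))
  let ψ : AdicRing.RPow R I 0 →ₐ[R] R :=
    { φ with commutes' := fun r => (hφ (MvPolynomial.C r)).trans (g.commutes r) }
  refine ⟨0, ψ, fun r => ?_⟩
  exact ⟨algebraMap R (AdicRing.RPow R I 0) r, (hφ (MvPolynomial.C r)).trans (g.commutes r)⟩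

theorem topFiniteType_rPow (I : Ideal R) (n : ℕ) : AdicRing.TopFiniteType R I (AdicRing.RPow R I n) :=
  ⟨n, AlgHom.id R _, Function.surjective_id⟩

theorem flat_rPow (hR : AdicRing.IsBase R I) (n : ℕ) : Module.Flat R (AdicRing.RPow R I n) := by
  haveI : Module.Flat (MvPolynomial (Fin n) R) (AdicRing.RPow R I n) :=
    (tame_of_finiteType I hR (topFiniteType_self hR) (MvPolynomial (Fin n) R)).flat_adicCompletion
  exact Module.Flat.trans R (MvPolynomial (Fin n) R) _

theorem noPowTorsion_rPow (hR : AdicRing.IsBase R I) (n : ℕ) :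
    AdicRing.NoPowTorsion I (AdicRing.RPow R I n) :=
  haveI := flat_rPow hR n
  noPowTorsion_of_flat hR _

/-- The kernel of a map of modules whose target has no power torsion is saturated. -/
theorem powSat_ker {A : Type*} [CommRing A] [Algebra R A] {M N : Type*} [AddCommGroup M] [Module A M]
    [AddCommGroup N] [Module A N] [Module R N] [IsScalarTower R A N] (f : M →ₗ[A] N)
    (hN : AdicRing.NoPowTorsion I N) :
    powSat (I.map (algebraMap R A)) (LinearMap.ker f) = LinearMap.ker f := by
  refine le_antisymm (fun x ⟨k, hk⟩ => hN (f x) k fun a ha => ?_) (le_powSat _ _)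
  have h1 := hk _ (Ideal.map_pow (algebraMap R A) I k ▸ Ideal.mem_map_of_mem _ ha)
  rw [← IsScalarTower.algebraMap_smul A a (f x), ← map_smul]
  exact h1

end Groth.Agent.ValTate
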