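import Groth.Agent.ValTate.Base
import Mathlib.RingTheory.FinitePresentation
import Mathlib.RingTheory.Finiteness.Ideal
import Mathlib.RingTheory.AdicCompletion.Functoriality

/-!
# Topologically finite type and finite presentation via truncations
-/

universe u v

open MvPolynomial

namespace Groth.Agent.ValTate

variable {R : Type u} [CommRing R] {I : Ideal R}

/-- The truncations of a completion are those of the ring. -/
theorem completion_mk_pow {S : Type u} [CommRing S] (K : Ideal S) (hK : K.FG) (k : ℕ) :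
    Function.Surjective ((Ideal.Quotient.mk ((K.map (algebraMap S (AdicCompletion K S))) ^ k)).comp
      (algebraMap S (AdicCompletion K S))) ∧
    RingHom.ker ((Ideal.Quotient.mk ((K.map (algebraMap S (AdicCompletion K S))) ^ k)).comp
      (algebraMap S (AdicCompletion K S))) = K ^ k := by
  refine ⟨fun y => ?_, ?_⟩
  · obtain ⟨c, rfl⟩ := Ideal.Quotient.mk_surjective y
    obtain ⟨s, hs⟩ := Ideal.Quotient.mk_surjective (AdicCompletion.evalₐ K k c)
    refine ⟨s, ((Ideal.Quotient.eq).2 ?_).symm⟩
    rw [← FSchLib.ker_evalₐ K hK k, RingHom.mem_ker]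
    change AdicCompletion.evalₐ K k (c - algebraMap S (AdicCompletion K S) s) = 0
    rw [map_sub, FSchLib.evalₐ_algebraMap, hs, sub_self]
  · ext s
    rw [RingHom.mem_ker, RingHom.comp_apply, Ideal.Quotient.eq_zero_iff_mem, ← FSchLib.ker_evalₐ K hK k,
      RingHom.mem_ker]
    change AdicCompletion.evalₐ K k (algebraMap S (AdicCompletion K S) s) = 0 ↔ _
    rw [FSchLib.evalₐ_algebraMap, Ideal.Quotient.eq_zero_iff_mem]

theorem finiteType_quotientMap_iff {A : Type v} [CommRing A] [Algebra R A] (J : Ideal R) :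
    (Ideal.quotientMap (J.map (algebraMap R A)) (algebraMap R A) Ideal.le_comap_map).FiniteType ↔
      Algebra.FiniteType R (A ⧸ J.map (algebraMap R A)) := by
  have h : (Ideal.quotientMap (J.map (algebraMap R A)) (algebraMap R A) Ideal.le_comap_map).comp
      (Ideal.Quotient.mk J) = algebraMap R (A ⧸ J.map (algebraMap R A)) := rfl
  rw [← RingHom.finiteType_algebraMap, ← h]
  exact ⟨fun hf => hf.comp (RingHom.FiniteType.of_surjective _ Ideal.Quotient.mk_surjective),
    fun hf => RingHom.FiniteType.of_comp_finiteType hf⟩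

theorem finitePresentation_quotientMap_iff {A : Type v} [CommRing A] [Algebra R A] (J : Ideal R)
    (hJ : J.FG) :
    (Ideal.quotientMap (J.map (algebraMap R A)) (algebraMap R A) Ideal.le_comap_map).FinitePresentation ↔
      Algebra.FinitePresentation R (A ⧸ J.map (algebraMap R A)) := by
  have h : (Ideal.quotientMap (J.map (algebraMap R A)) (algebraMap R A) Ideal.le_comap_map).comp
      (Ideal.Quotient.mk J) = algebraMap R (A ⧸ J.map (algebraMap R A)) := rfl
  rw [← RingHom.finitePresentation_algebraMap, ← h]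
  refine ⟨fun hf => hf.comp (RingHom.FinitePresentation.of_surjective _ Ideal.Quotient.mk_surjective ?_),
    fun hf => RingHom.FinitePresentation.of_comp_finiteType _ hf
      (RingHom.FiniteType.of_surjective _ Ideal.Quotient.mk_surjective)⟩
  rwa [Ideal.mk_ker]

/-- Lifts of generators modulo `I` generate topologically. -/
theorem exists_surjective_rPow (hI : I.FG) {A : Type u} [CommRing A] [Algebra R A]
    [IsAdicComplete (I.map (algebraMap R A)) A] {n : ℕ} (a : Fin n → A)
    (h : Function.Surjective ((Ideal.Quotient.mk (I.map (algebraMap R A))).comp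
      (MvPolynomial.aeval (R := R) a).toRingHom)) :
    ∃ φ : AdicRing.RPow R I n →ₐ[R] A, Function.Surjective φ := by
  obtain ⟨Φ, hΦ⟩ := Groth.Agent.AdicRing.exists_completion_hom
    (I.map (C : R →+* MvPolynomial (Fin n) R)) (MvPolynomial.aeval a).toRingHom
    (I.map (algebraMap R A)) (by
      rw [Ideal.map_map, show (MvPolynomial.aeval a).toRingHom.comp C = algebraMap R A from
        RingHom.ext fun r => (MvPolynomial.aeval a).commutes r])
  let φ : AdicRing.RPow R I n →ₐ[R] A :=
    { Φ with commutes' := fun r => (hΦ (C r)).trans ((MvPolynomial.aeval a).commutes r) }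
  refine ⟨φ, ?_⟩
  have := isAdicComplete_rPow I hI n
  have hmap : (I.map (algebraMap R (AdicRing.RPow R I n))).map Φ = I.map (algebraMap R A) := by
    rw [Ideal.map_map, show Φ.comp (algebraMap R (AdicRing.RPow R I n)) = algebraMap R A from
      RingHom.ext φ.commutes]
  have : IsHausdorff ((I.map (algebraMap R (AdicRing.RPow R I n))).map Φ) A := hmap ▸ inferInstance
  refine surjective_of_mk_map_comp_surjective (I := I.map (algebraMap R (AdicRing.RPow R I n))) Φ ?_
  intro y
  obtain ⟨y, rfl⟩ := Ideal.Quotient.mk_surjective y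
  obtain ⟨p, hp⟩ := h (Ideal.Quotient.mk _ y)
  refine ⟨algebraMap _ (AdicRing.RPow R I n) p, Ideal.Quotient.eq.2 ?_⟩
  rw [hΦ, hmap]
  exact Ideal.Quotient.eq.1 hp

/-- A complete algebra is topologically of finite type iff it is of finite type modulo `I`. -/
theorem topFiniteType_iff_finiteType (hI : I.FG) {A : Type u} [CommRing A] [Algebra R A]
    [IsAdicComplete (I.map (algebraMap R A)) A] :
    AdicRing.TopFiniteType R I A ↔ Algebra.FiniteType R (A ⧸ I.map (algebraMap R A)) := by
  constructor
  · rintro ⟨n, φ, hφ⟩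
    let g : MvPolynomial (Fin n) R →ₐ[R] A ⧸ I.map (algebraMap R A) :=
      (Ideal.Quotient.mkₐ R _).comp
        (φ.comp (IsScalarTower.toAlgHom R (MvPolynomial (Fin n) R) (AdicRing.RPow R I n)))
    refine Algebra.FiniteType.of_surjective g fun y => ?_
    obtain ⟨y, rfl⟩ := Ideal.Quotient.mk_surjective y
    obtain ⟨x, rfl⟩ := hφ y
    obtain ⟨p, hp⟩ := Groth.Agent.AdicRing.surjective_mk_algebraMap_completion _ (hI.map C)
      (Ideal.Quotient.mk _ x)
    refine ⟨p, Ideal.Quotient.eq.2 ?_⟩
    have h1 := Ideal.mem_map_of_mem φ.toRingHom (Ideal.Quotient.eq.1 hp)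
    rw [Ideal.map_map, Ideal.map_map] at h1
    rw [show (φ.toRingHom.comp (algebraMap (MvPolynomial (Fin n) R) (AdicRing.RPow R I n))).comp C =
      algebraMap R A from RingHom.ext φ.commutes, map_sub] at h1
    exact h1
  · intro h
    obtain ⟨n, g, hg⟩ := Algebra.FiniteType.iff_quotient_mvPolynomial''.1 h
    choose a ha using fun i => Ideal.Quotient.mk_surjective (g (X i))
    refine ⟨n, exists_surjective_rPow hI a fun y => ?_⟩
    obtain ⟨p, hp⟩ := hg y
    refine ⟨p, ?_⟩
    rw [← hp]
    exact DFunLike.congr_fun (MvPolynomial.algHom_ext (f := (Ideal.Quotient.mkₐ R _).comp (MvPolynomial.aeval a))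
      (g := g) fun i => by simp [ha]) p

theorem map_pow_eq_pow {T : Type v} [CommRing T] [Algebra R T] (I : Ideal R) (k : ℕ) :
    (I ^ k).map (algebraMap R T) = (I.map (algebraMap R T)) ^ k :=
  Ideal.map_pow _ _ _

theorem finitePresentation_rPow_quotient (hI : I.FG) (n k : ℕ) :
    Algebra.FinitePresentation R
      (AdicRing.RPow R I n ⧸ (I ^ k).map (algebraMap R (AdicRing.RPow R I n))) := by
  let T := AdicRing.RPow R I n
  let K : Ideal (MvPolynomial (Fin n) R) := I.map C
  have hJ : (I ^ k).map (algebraMap R T) = (K.map (algebraMap (MvPolynomial (Fin n) R) T)) ^ k := by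
    rw [map_pow_eq_pow, Ideal.map_map]
    rfl
  obtain ⟨hs, hker⟩ := completion_mk_pow K (hI.map C) k
  have : Algebra.FinitePresentation R (T ⧸ (K.map (algebraMap (MvPolynomial (Fin n) R) T)) ^ k) :=
    Algebra.FinitePresentation.of_surjective (f := (Ideal.Quotient.mkₐ R _).comp
      (IsScalarTower.toAlgHom R (MvPolynomial (Fin n) R) T)) hs
      (by
        change (RingHom.ker ((Ideal.Quotient.mk _).comp (algebraMap (MvPolynomial (Fin n) R) T))).FG
        rw [hker]
        exact (hI.map C).pow)
  exact Algebra.FinitePresentation.equiv (Ideal.quotientEquivAlgOfEq R hJ.symm)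

/-- The map between the truncations. -/
theorem exists_truncMap {T A : Type u} [CommRing T] [Algebra R T] [CommRing A] [Algebra R A]
    (φ : T →ₐ[R] A) (hφ : Function.Surjective φ) (J : Ideal R) :
    ∃ g : T ⧸ J.map (algebraMap R T) →ₐ[R] A ⧸ J.map (algebraMap R A),
      Function.Surjective g ∧
        RingHom.ker g.toRingHom = (RingHom.ker φ.toRingHom).map (Ideal.Quotient.mk _) := by
  have hJ : J.map (algebraMap R A) = (J.map (algebraMap R T)).map φ.toRingHom := by
    rw [Ideal.map_map]
    exact congrArg (fun θ => Ideal.map θ J) (RingHom.ext fun r => (φ.commutes r).symm)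
  let g : T ⧸ J.map (algebraMap R T) →ₐ[R] A ⧸ J.map (algebraMap R A) :=
    Ideal.quotientMapₐ (I := J.map (algebraMap R T)) (J.map (algebraMap R A)) φ
      (hJ ▸ Ideal.le_comap_map)
  refine ⟨g, fun y => ?_, ?_⟩
  · obtain ⟨y, rfl⟩ := Ideal.Quotient.mk_surjective y
    obtain ⟨x, rfl⟩ := hφ y
    exact ⟨Ideal.Quotient.mk _ x, rfl⟩
  · refine le_antisymm (fun y hy => ?_) (Ideal.map_le_iff_le_comap.2 fun x hx => ?_)
    · obtain ⟨x, rfl⟩ := Ideal.Quotient.mk_surjective y
      have h1 : φ x ∈ (J.map (algebraMap R T)).map φ.toRingHom :=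
        hJ ▸ Ideal.Quotient.eq_zero_iff_mem.1 hy
      obtain ⟨z, hz, hzx⟩ := (Ideal.mem_map_iff_of_surjective φ.toRingHom hφ).1 h1
      have h2 : Ideal.Quotient.mk (J.map (algebraMap R T)) x = Ideal.Quotient.mk _ (x - z) := by
        rw [map_sub, Ideal.Quotient.eq_zero_iff_mem.2 hz, sub_zero]
      rw [h2]
      refine Ideal.mem_map_of_mem _ ?_
      rw [RingHom.mem_ker, map_sub, hzx]
      exact sub_self _
    · change Ideal.Quotient.mk (J.map (algebraMap R A)) (φ x) = 0
      rw [show φ x = 0 from hx, map_zero]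

theorem finitePresentation_trunc_of_topFinitePresentation (hI : I.FG) {A : Type u} [CommRing A]
    [Algebra R A] (hA : AdicRing.TopFinitePresentation R I A) (k : ℕ) :
    Algebra.FinitePresentation R (A ⧸ (I ^ k).map (algebraMap R A)) := by
  obtain ⟨n, φ, hφ, hK⟩ := hA
  obtain ⟨g, hg, hker⟩ := exists_truncMap φ hφ (I ^ k)
  have := finitePresentation_rPow_quotient hI n k
  exact Algebra.FinitePresentation.of_surjective hg (hker ▸ hK.map _)

theorem topFinitePresentation_of_trunc (hR : AdicRing.IsBase R I) {A : Type u} [CommRing A]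
    [Algebra R A] (hA : AdicRing.TopFiniteType R I A)
    (h : ∀ k : ℕ, Algebra.FinitePresentation R (A ⧸ (I ^ (k + 1)).map (algebraMap R A))) :
    AdicRing.TopFinitePresentation R I A := by
  obtain ⟨n, φ, hφ⟩ := hA
  refine ⟨n, φ, hφ, ?_⟩
  let T := AdicRing.RPow R I n
  let K : Ideal T := RingHom.ker φ.toRingHom
  let J : Ideal T := I.map (algebraMap R T)
  have ht : Tame J := tame_of_topFiniteType I hR (topFiniteType_rPow I n)
  obtain ⟨c, hc⟩ := ht.exists_pow_smul_le K
  obtain ⟨n₀, hn₀⟩ := ht.exists_artinRees K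
  let N : Submodule T T := J ^ c • powSat J K
  have hN : N.FG := Submodule.FG.smul (Ideal.FG.pow ht.fg_ideal) (ht.powSat_fg K)
  obtain ⟨g, hg, hker⟩ := exists_truncMap φ hφ (I ^ (c + n₀ + 1))
  have := finitePresentation_rPow_quotient (isBase_fg hR) n (c + n₀ + 1)
  have := h (c + n₀)
  have hfg := Algebra.FinitePresentation.ker_fG_of_surjective g hg
  rw [hker] at hfg
  obtain ⟨m, b, hb⟩ := Submodule.fg_iff_exists_fin_generating_family.1 hfg
  choose x hx hxb using fun i => (Ideal.mem_map_iff_of_surjective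
    (Ideal.Quotient.mk ((I ^ (c + n₀ + 1)).map (algebraMap R T))) Ideal.Quotient.mk_surjective).1
    (hb.le (Submodule.subset_span ⟨i, rfl⟩))
  have hL : Submodule.span T (Set.range x) ≤ K := Submodule.span_le.2 (Set.range_subset_iff.2 hx)
  have heq : Submodule.span T (Set.range x) ⊔ N = K := by
    refine le_antisymm (sup_le hL hc) fun y hy => ?_
    have h1 : Ideal.Quotient.mk ((I ^ (c + n₀ + 1)).map (algebraMap R T)) y ∈
        (Ideal.span (Set.range x)).map (Ideal.Quotient.mk _) := by
      rw [Ideal.map_span, ← Set.range_comp,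
        show (Ideal.Quotient.mk ((I ^ (c + n₀ + 1)).map (algebraMap R T)) ∘ x) = b from funext hxb]
      exact hb.ge (Ideal.mem_map_of_mem _ hy)
    obtain ⟨z, hz, hzy⟩ := (Ideal.mem_map_iff_of_surjective _ Ideal.Quotient.mk_surjective).1 h1
    rw [show y = z + (y - z) by abel]
    refine Submodule.add_mem_sup hz ?_
    have h2 : y - z ∈ J ^ (c + n₀ + 1) := by
      have := Ideal.Quotient.eq.1 hzy.symm
      rwa [map_pow_eq_pow] at this
    have h3 : y - z ∈ J ^ c • (K : Submodule T T) := hn₀ c
      ⟨by rw [Ideal.smul_top_eq_map, Algebra.algebraMap_self, Ideal.map_id]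
          exact Ideal.pow_le_pow_right (Nat.le_succ _) h2, sub_mem hy (hL hz)⟩
    exact smul_mono_right (J ^ c) (le_powSat J K) h3
  change (K : Submodule T T).FG
  rw [← heq]
  exact (Submodule.fg_span (Set.finite_range x)).sup hN

theorem topFinitePresentation_iff_trunc (hR : AdicRing.IsBase R I) {A : Type u} [CommRing A]
    [Algebra R A] [IsAdicComplete (I.map (algebraMap R A)) A] :
    AdicRing.TopFinitePresentation R I A ↔
      ∀ k : ℕ, Algebra.FinitePresentation R (A ⧸ (I ^ (k + 1)).map (algebraMap R A)) := by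
  refine ⟨fun h k => finitePresentation_trunc_of_topFinitePresentation (isBase_fg hR) h _, fun h => ?_⟩
  refine topFinitePresentation_of_trunc hR ?_ h
  rw [topFiniteType_iff_finiteType (isBase_fg hR)]
  have := h 0
  exact Algebra.FiniteType.equiv inferInstance
    (Ideal.quotientEquivAlgOfEq R (show (I ^ (0 + 1)).map (algebraMap R A) = I.map (algebraMap R A) by
      rw [zero_add, pow_one]))

end Groth.Agent.ValTate
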