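import Groth.Agent.ValTate.Finite
import Groth.Agent.DimLib.Algebra
import Mathlib.RingTheory.NoetherNormalization
import Mathlib.RingTheory.Jacobson.Artinian
import Mathlib.RingTheory.HopkinsLevitzki
import Mathlib.RingTheory.KrullDimension.Zero

/-!
# Rigid points: domains topologically of finite type over a valuation ring of height one

A domain topologically of finite type over `R` with `t ≠ 0` is finite over `R` as soon as it is of
dimension one or all its nonzero primes contain `t` (Nullstellensatz, via Noether normalisation of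
the special fibre).
-/

universe u v w

open IsLocalRing MvPolynomial

namespace Groth.Agent.ValTate

theorem finite_of_finite_quotient {T : Type v} [CommRing T] (a : T) [IsAdicComplete (Ideal.span {a}) T]
    (B : Type w) [CommRing B] [Algebra T B] [IsAdicComplete (Ideal.span {algebraMap T B a}) B]
    [Module.Finite T (B ⧸ Ideal.span {algebraMap T B a})] : Module.Finite T B := by
  classical
  have h0 : (Ideal.span {a}).map (algebraMap T B) = Ideal.span {algebraMap T B a} := by
    rw [Ideal.map_span, Set.image_singleton]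
  haveI : IsAdicComplete ((Ideal.span {a}).map (algebraMap T B)) B := by
    rw [h0]; infer_instance
  haveI : IsHausdorff (Ideal.span {a}) B :=
    ((IsAdicComplete.map_algebraMap_iff (S := B) (Ideal.span {a}) B).1 ‹_›).toIsHausdorff
  let q : B →ₐ[T] B ⧸ Ideal.span {algebraMap T B a} := Ideal.Quotient.mkₐ T _
  obtain ⟨l, gbar, hgbar⟩ := Module.Finite.exists_fin (R := T) (M := B ⧸ Ideal.span {algebraMap T B a})
  choose g hg using fun i => Ideal.Quotient.mk_surjective (gbar i)
  refine finite_of_forall_eq_add_smul a g fun x => ?_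
  obtain ⟨c, hc⟩ := Submodule.mem_span_range_iff_exists_fun (R := T).1 (hgbar ▸ Submodule.mem_top : q x ∈ _)
  have h1 : q (x - ∑ i, c i • g i) = 0 := by
    rw [map_sub, map_sum, sub_eq_zero, ← hc]
    exact Finset.sum_congr rfl fun i _ => by rw [map_smul, ← hg i]; rfl
  obtain ⟨z, hz⟩ := Ideal.mem_span_singleton'.1 (Ideal.Quotient.eq_zero_iff_mem.1 h1)
  exact ⟨c, z, by rw [Algebra.smul_def, mul_comm, hz, add_sub_cancel]⟩

variable {R : Type u} [CommRing R] [IsDomain R] [ValuationRing R] [Ring.KrullDimLE 1 R]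
  (t : R) [IsAdicComplete (Ideal.span {t}) R] (ht : t ≠ 0)

omit [Ring.KrullDimLE 1 R] [IsDomain R] [ValuationRing R] [IsAdicComplete (Ideal.span {t}) R] in
theorem map_span_singleton {B : Type v} [CommRing B] (φ : R →+* B) :
    (Ideal.span {t}).map φ = Ideal.span {φ t} := by
  rw [Ideal.map_span, Set.image_singleton]

include ht in
theorem injective_algebraMap_of_ne_zero {B : Type v} [CommRing B] [IsDomain B] [Algebra R B]
    (hB : algebraMap R B t ≠ 0) : Function.Injective (algebraMap R B) := by
  refine (injective_iff_map_eq_zero _).2 fun c hc => ?_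
  by_contra hc0
  obtain ⟨k, d, hd⟩ := exists_dvd_pow hc0 (mem_maximalIdeal_of_complete t)
  exact pow_ne_zero k hB (by rw [← map_pow, hd, map_mul, hc, zero_mul])

omit [Ring.KrullDimLE 1 R] [ValuationRing R] [IsAdicComplete (Ideal.span {t}) R] [IsDomain R] in
theorem algebraMap_ne_zero_of_noPowTorsion {B : Type v} [CommRing B] [Nontrivial B] [Algebra R B]
    (hB : AdicRing.NoPowTorsion (Ideal.span {t}) B) : algebraMap R B t ≠ 0 := fun h => by
  refine one_ne_zero (hB (1 : B) 1 fun a ha => ?_)
  obtain ⟨d, rfl⟩ := Ideal.mem_span_singleton'.1 (pow_one (Ideal.span {t}) ▸ ha)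
  rw [Algebra.smul_def, map_mul, h, mul_zero, mul_one]

omit [Ring.KrullDimLE 1 R] [ValuationRing R] [IsAdicComplete (Ideal.span {t}) R] [IsDomain R] in
theorem exists_poly_sub_mem (n : ℕ) (x : AdicRing.RPow R (Ideal.span {t}) n) :
    ∃ p : MvPolynomial (Fin n) R, x - algebraMap (MvPolynomial (Fin n) R) _ p ∈
      Ideal.span {algebraMap R (AdicRing.RPow R (Ideal.span {t}) n) t} := by
  obtain ⟨p, hp⟩ := Groth.Agent.AdicRing.surjective_mk_algebraMap_completion
    ((Ideal.span {t}).map (C : R →+* MvPolynomial (Fin n) R))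
    (Ideal.FG.map (Submodule.fg_span_singleton t) _) (Ideal.Quotient.mk _ x)
  refine ⟨p, ?_⟩
  have h := Ideal.Quotient.eq.1 hp.symm
  rw [Ideal.map_map] at h
  exact (map_span_singleton t _).le h

omit [Ring.KrullDimLE 1 R] [ValuationRing R] [IsAdicComplete (Ideal.span {t}) R] [IsDomain R] in
theorem finiteType_quotient {B : Type v} [CommRing B] [Algebra R B]
    (hB : AdicRing.TopFiniteType R (Ideal.span {t}) B) (J : Ideal B) (hJ : algebraMap R B t ∈ J) :
    Algebra.FiniteType R (B ⧸ J) := by
  obtain ⟨n, φ, hφ⟩ := hB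
  refine Algebra.FiniteType.of_surjective ((Ideal.Quotient.mkₐ R J).comp
    (φ.comp (IsScalarTower.toAlgHom R (MvPolynomial (Fin n) R) _))) fun y => ?_
  obtain ⟨b, rfl⟩ := Ideal.Quotient.mk_surjective y
  obtain ⟨x, rfl⟩ := hφ b
  obtain ⟨p, hp⟩ := exists_poly_sub_mem t n x
  refine ⟨p, (Ideal.Quotient.eq.2 ?_).symm⟩
  obtain ⟨z, hz⟩ := Ideal.mem_span_singleton'.1 hp
  have h1 := congrArg φ hz
  rw [map_mul, φ.commutes, map_sub] at h1
  exact h1 ▸ J.mul_mem_left _ hJ

include ht in
theorem isAdicComplete_span_of_topFiniteType {B : Type v} [CommRing B] [Algebra R B]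
    (hB : AdicRing.TopFiniteType R (Ideal.span {t}) B) :
    IsAdicComplete (Ideal.span {algebraMap R B t}) B := by
  have h := isAdicComplete_topFiniteType _ (isBase_of_valuationRing t ht) hB
  rwa [map_span_singleton] at h

include ht in
/-- If all primes over `t` are maximal, a topologically finite type algebra is finite. -/
theorem finite_of_forall_isMaximal {B : Type v} [CommRing B] [Algebra R B]
    (hB : AdicRing.TopFiniteType R (Ideal.span {t}) B)
    (hmax : ∀ P : Ideal B, P.IsPrime → algebraMap R B t ∈ P → P.IsMaximal) : Module.Finite R B := by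
  let N : Ideal B := (maximalIdeal R).map (algebraMap R B)
  have htN : algebraMap R B t ∈ N := Ideal.mem_map_of_mem _ (mem_maximalIdeal_of_complete t)
  haveI : Algebra.FiniteType R (B ⧸ N) := finiteType_quotient t hB N htN
  letI : Algebra (ResidueField R) (B ⧸ N) :=
    (Ideal.Quotient.lift (maximalIdeal R) ((Ideal.Quotient.mk N).comp (algebraMap R B))
      (fun a ha => Ideal.Quotient.eq_zero_iff_mem.2 (Ideal.mem_map_of_mem _ ha))).toAlgebra
  haveI : IsScalarTower R (ResidueField R) (B ⧸ N) := IsScalarTower.of_algebraMap_eq (fun a => rfl)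
  haveI : Algebra.FiniteType (ResidueField R) (B ⧸ N) :=
    Algebra.FiniteType.of_restrictScalars_finiteType (R := R) (S := ResidueField R) (A := B ⧸ N)
  haveI : IsNoetherianRing (B ⧸ N) := Algebra.FiniteType.isNoetherianRing (ResidueField R) _
  haveI : Ring.KrullDimLE 0 (B ⧸ N) := Ring.krullDimLE_zero_iff.2 fun P hP => by
    haveI := hP
    have h1 : (P.comap (Ideal.Quotient.mk N)).IsMaximal :=
      hmax _ (Ideal.IsPrime.comap _) (by
        rw [Ideal.mem_comap, Ideal.Quotient.eq_zero_iff_mem.2 htN]
        exact P.zero_mem)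
    rcases Ideal.map_eq_top_or_isMaximal_of_surjective (Ideal.Quotient.mk N) Ideal.Quotient.mk_surjective h1 with h | h
    · rw [Ideal.map_comap_of_surjective _ Ideal.Quotient.mk_surjective] at h
      exact absurd h hP.ne_top
    · rwa [Ideal.map_comap_of_surjective _ Ideal.Quotient.mk_surjective] at h
  haveI : IsArtinianRing (B ⧸ N) := isArtinianRing_iff_krullDimLE_zero.2 inferInstance
  haveI : Module.Finite (ResidueField R) (B ⧸ N) :=
    (Module.finite_iff_isArtinianRing (ResidueField R) (B ⧸ N)).2 inferInstance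
  haveI : Module.Finite R (B ⧸ N) := Module.Finite.trans (ResidueField R) (B ⧸ N)
  haveI : Algebra.FiniteType R (B ⧸ Ideal.span {algebraMap R B t}) :=
    finiteType_quotient t hB _ (Ideal.mem_span_singleton_self _)
  haveI : Module.Finite R (B ⧸ Ideal.span {algebraMap R B t}) :=
    finite_of_isIntegral_mod_nil
      (Ideal.Quotient.factorₐ R ((Ideal.span_singleton_le_iff_mem _).2 htN) :
        B ⧸ Ideal.span {algebraMap R B t} →ₐ[R] B ⧸ N) fun z hz => by
      obtain ⟨z, rfl⟩ := Ideal.Quotient.mk_surjective z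
      obtain ⟨k, hk⟩ := exists_pow_mem_span t ht (Ideal.Quotient.eq_zero_iff_mem.1 hz)
      exact ⟨k, by rw [← map_pow]; exact Ideal.Quotient.eq_zero_iff_mem.2 hk⟩
  haveI := isAdicComplete_span_of_topFiniteType t ht hB
  exact finite_of_finite_quotient t B

include ht in
/-- Restricted power series in no variables are finite over the base. -/
theorem finite_rPow_zero : Module.Finite R (AdicRing.RPow R (Ideal.span {t}) 0) := by
  let T := AdicRing.RPow R (Ideal.span {t}) 0
  haveI : IsAdicComplete (Ideal.span {algebraMap R T t}) T :=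
    isAdicComplete_span_of_topFiniteType t ht (topFiniteType_rPow _ 0)
  haveI : Module.Finite R (T ⧸ Ideal.span {algebraMap R T t}) := by
    refine Module.Finite.of_surjective (Algebra.linearMap R (T ⧸ Ideal.span {algebraMap R T t})) fun y => ?_
    obtain ⟨x, rfl⟩ := Ideal.Quotient.mk_surjective y
    obtain ⟨p, hp⟩ := exists_poly_sub_mem t 0 x
    refine ⟨coeff 0 p, (Ideal.Quotient.eq.2 ?_).symm⟩
    rw [MvPolynomial.eq_C_of_isEmpty p] at hp
    exact hp
  exact finite_of_finite_quotient t T

include ht in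
set_option maxHeartbeats 1000000 in
/-- Nullstellensatz: a domain topologically of finite type in which every nonzero prime contains `t`
is finite over the base. -/
theorem finite_of_forall_prime_mem {B : Type u} [CommRing B] [IsDomain B] [Algebra R B]
    (hB : AdicRing.TopFiniteType R (Ideal.span {t}) B) (htB : algebraMap R B t ≠ 0)
    (hprime : ∀ P : Ideal B, P.IsPrime → P ≠ ⊥ → algebraMap R B t ∈ P) : Module.Finite R B := by
  classical
  haveI hcB := isAdicComplete_span_of_topFiniteType t ht hB
  let N : Ideal B := (maximalIdeal R).map (algebraMap R B)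
  have htN : algebraMap R B t ∈ N := Ideal.mem_map_of_mem _ (mem_maximalIdeal_of_complete t)
  haveI : Algebra.FiniteType R (B ⧸ N) := finiteType_quotient t hB N htN
  letI : Algebra (ResidueField R) (B ⧸ N) :=
    (Ideal.Quotient.lift (maximalIdeal R) ((Ideal.Quotient.mk N).comp (algebraMap R B))
      (fun a ha => Ideal.Quotient.eq_zero_iff_mem.2 (Ideal.mem_map_of_mem _ ha))).toAlgebra
  haveI : IsScalarTower R (ResidueField R) (B ⧸ N) := IsScalarTower.of_algebraMap_eq (fun a => rfl)
  haveI : Algebra.FiniteType (ResidueField R) (B ⧸ N) :=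
    Algebra.FiniteType.of_restrictScalars_finiteType (R := R) (S := ResidueField R) (A := B ⧸ N)
  haveI : Nontrivial (B ⧸ N) := Ideal.Quotient.nontrivial_iff.2 fun htop => by
    obtain ⟨k, hk⟩ := exists_pow_mem_span t ht (show (1 : B) ∈ N by rw [show N = ⊤ from htop]; trivial)
    rw [one_pow] at hk
    exact (IsAdicComplete.le_jacobson_bot (Ideal.span {algebraMap R B t})).trans_lt
      (lt_top_iff_ne_top.2 fun hj => by
        rw [Ideal.jacobson_eq_top_iff] at hj; exact bot_ne_top hj) |>.ne ((Ideal.eq_top_iff_one _).2 hk)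
  obtain ⟨s, g, hg, hgfin⟩ := exists_finite_inj_algHom_of_fg (ResidueField R) (B ⧸ N)
  choose b hb using fun i : Fin s => Ideal.Quotient.mk_surjective (g (X i))
  let T := AdicRing.RPow R (Ideal.span {t}) s
  haveI : IsAdicComplete ((Ideal.span {t}).map (algebraMap R B)) B := by
    rw [map_span_singleton]; exact hcB
  obtain ⟨Θ, hΘ⟩ := Groth.Agent.AdicRing.exists_completion_hom
    ((Ideal.span {t}).map (C : R →+* MvPolynomial (Fin s) R)) (aeval b : MvPolynomial (Fin s) R →ₐ[R] B).toRingHom
    ((Ideal.span {t}).map (algebraMap R B))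
    (le_of_eq (by rw [Ideal.map_map]; exact congrArg (fun φ : R →+* B => Ideal.map φ (Ideal.span {t})) (aeval b).comp_algebraMap))
  have hΘR : ∀ r, Θ (algebraMap R T r) = algebraMap R B r := fun r =>
    (hΘ (C r)).trans ((aeval b).commutes r)
  have hΘX : ∀ i, Θ (algebraMap (MvPolynomial (Fin s) R) T (X i)) = b i := fun i =>
    (hΘ (X i)).trans (aeval_X b i)
  letI : Algebra T B := Θ.toAlgebra
  haveI : IsScalarTower R T B := IsScalarTower.of_algebraMap_eq fun r => (hΘR r).symm
  have htT : algebraMap T B (algebraMap R T t) = algebraMap R B t := hΘR t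
  let ρ : MvPolynomial (Fin s) R →+* B ⧸ N :=
    ((Ideal.Quotient.mk N).comp Θ).comp (algebraMap (MvPolynomial (Fin s) R) T)
  have hρ : ρ = g.toRingHom.comp (MvPolynomial.map (residue R)) := by
    refine MvPolynomial.ringHom_ext (fun r => ?_) fun i => ?_
    · change Ideal.Quotient.mk N (Θ (algebraMap (MvPolynomial (Fin s) R) T (C r))) = g (map (residue R) (C r))
      rw [map_C]
      exact (congrArg (Ideal.Quotient.mk N) (hΘR r)).trans (g.commutes (residue R r)).symm
    · change Ideal.Quotient.mk N (Θ (algebraMap (MvPolynomial (Fin s) R) T (X i))) = g (map (residue R) (X i))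
      rw [map_X, hΘX, hb]
  haveI : Module.Finite T (B ⧸ N) := by
    letI : Algebra (MvPolynomial (Fin s) R) (B ⧸ N) := ρ.toAlgebra
    haveI : IsScalarTower (MvPolynomial (Fin s) R) T (B ⧸ N) := IsScalarTower.of_algebraMap_eq fun p => rfl
    haveI : Module.Finite (MvPolynomial (Fin s) R) (B ⧸ N) := by
      have h : ρ.Finite := hρ ▸ RingHom.Finite.comp hgfin
        (RingHom.Finite.of_surjective _ (MvPolynomial.map_surjective _ residue_surjective))
      exact h
    exact Module.Finite.of_restrictScalars_finite (MvPolynomial (Fin s) R) T (B ⧸ N)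
  haveI : Algebra.FiniteType R (B ⧸ Ideal.span {algebraMap R B t}) :=
    finiteType_quotient t hB _ (Ideal.mem_span_singleton_self _)
  haveI : Algebra.FiniteType T (B ⧸ Ideal.span {algebraMap R B t}) :=
    Algebra.FiniteType.of_restrictScalars_finiteType (R := R) (S := T) (A := B ⧸ Ideal.span {algebraMap R B t})
  haveI : Module.Finite T (B ⧸ Ideal.span {algebraMap T B (algebraMap R T t)}) := by
    rw [htT]
    exact finite_of_isIntegral_mod_nil
      (Ideal.Quotient.factorₐ T ((Ideal.span_singleton_le_iff_mem _).2 htN) :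
        B ⧸ Ideal.span {algebraMap R B t} →ₐ[T] B ⧸ N) fun z hz => by
      obtain ⟨z, rfl⟩ := Ideal.Quotient.mk_surjective z
      obtain ⟨k, hk⟩ := exists_pow_mem_span t ht (Ideal.Quotient.eq_zero_iff_mem.1 hz)
      exact ⟨k, by rw [← map_pow]; exact Ideal.Quotient.eq_zero_iff_mem.2 hk⟩
  haveI hcT : IsAdicComplete (Ideal.span {algebraMap R T t}) T :=
    isAdicComplete_span_of_topFiniteType t ht (topFiniteType_rPow _ s)
  haveI : IsAdicComplete (Ideal.span {algebraMap T B (algebraMap R T t)}) B := by rw [htT]; exact hcB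
  haveI : Module.Finite T B := finite_of_finite_quotient (algebraMap R T t) B
  rcases s with _ | s
  · haveI : Module.Finite R T := finite_rPow_zero t ht
    exact Module.Finite.trans T B
  exfalso
  -- the normalisation map is injective
  let Jk : Ideal T := RingHom.ker Θ
  have hJsat : ∀ (x : T) (k : ℕ), algebraMap R T t ^ k * x ∈ Jk → x ∈ Jk := fun x k hx => by
    rw [RingHom.mem_ker, map_mul, map_pow, hΘR] at hx
    exact (mul_eq_zero.1 hx).resolve_left (pow_ne_zero _ htB)
  have hJfg : Jk.FG := by
    have h : powSat ((Ideal.span {t}).map (algebraMap R T)) Jk = Jk := by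
      refine le_antisymm (fun x ⟨k, hk⟩ => hJsat x k ?_) (le_powSat _ _)
      exact hk _ (Ideal.pow_mem_pow (Ideal.mem_map_of_mem _ (Ideal.mem_span_singleton_self t)) k)
    exact h ▸ (tame_of_topFiniteType _ (isBase_of_valuationRing t ht) (topFiniteType_rPow _ (s + 1))).powSat_fg Jk
  have hJN : Jk ≤ (maximalIdeal R).map (algebraMap R T) := by
    intro x hx
    obtain ⟨p, hp⟩ := exists_poly_sub_mem t (s + 1) x
    have hle : Ideal.span {algebraMap R T t} ≤ (maximalIdeal R).map (algebraMap R T) :=
      (Ideal.span_singleton_le_iff_mem _).2 (Ideal.mem_map_of_mem _ (mem_maximalIdeal_of_complete t))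
    have h1 : ρ p = 0 := by
      obtain ⟨z, hz⟩ := Ideal.mem_span_singleton'.1 hp
      have h2 := congrArg Θ hz
      rw [map_mul, hΘR, map_sub, (hx : Θ x = 0), zero_sub] at h2
      change Ideal.Quotient.mk N (Θ (algebraMap (MvPolynomial (Fin (s + 1)) R) T p)) = 0
      rw [Ideal.Quotient.eq_zero_iff_mem, ← neg_mem_iff, ← h2]
      exact Ideal.mul_mem_left _ _ htN
    rw [hρ] at h1
    have h3 : map (residue R) p = 0 := hg (h1.trans (map_zero _).symm)
    have h4 : p ∈ (maximalIdeal R).map C := by
      rw [← ker_residue (R := R), ← MvPolynomial.ker_map]; exact h3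
    have h5 := Ideal.mem_map_of_mem (algebraMap (MvPolynomial (Fin (s + 1)) R) T) h4
    rw [Ideal.map_map] at h5
    have h6 := add_mem (hle hp) (show algebraMap (MvPolynomial (Fin (s + 1)) R) T p ∈
      (maximalIdeal R).map (algebraMap R T) from h5)
    rwa [sub_add_cancel] at h6
  have hJle : Jk ≤ Ideal.span {algebraMap R T t} * Jk := by
    obtain ⟨l, f, hf⟩ := Submodule.fg_iff_exists_fin_generating_family.1 hJfg
    have hfin : ∀ i, ∃ c ∈ maximalIdeal R, f i ∈ Ideal.span {algebraMap R T c} := fun i => by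
      obtain ⟨F, hF, hFi⟩ := Submodule.mem_span_finite_of_mem_span (hJN (hf ▸ Submodule.subset_span (Set.mem_range_self i) : f i ∈ Jk))
      choose r hrm hr using fun y : F => hF y.2
      obtain ⟨c, hc⟩ := (IsBezout.isPrincipal_of_FG (Ideal.span ((Finset.univ.image r : Finset R) : Set R))
        ⟨_, rfl⟩).principal
      have hc' : Ideal.span ((Finset.univ.image r : Finset R) : Set R) = Ideal.span {c} := hc
      refine ⟨c, ?_, ?_⟩
      · have h1 : c ∈ Ideal.span ((Finset.univ.image r : Finset R) : Set R) :=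
          hc' ▸ Ideal.mem_span_singleton_self c
        refine Ideal.span_le.2 ?_ h1
        intro z hz
        obtain ⟨y, -, rfl⟩ := Finset.mem_image.1 (Finset.mem_coe.1 hz)
        exact hrm y
      · refine Ideal.span_le.2 (fun y hy => ?_) hFi
        obtain ⟨d, hd⟩ := Ideal.mem_span_singleton.1
          (hc' ▸ Ideal.subset_span (Finset.mem_coe.2 (Finset.mem_image_of_mem r (Finset.mem_univ (⟨y, hy⟩ : F)))))
        have e : algebraMap R T (r ⟨y, hy⟩) = y := hr ⟨y, hy⟩
        rw [SetLike.mem_coe, Ideal.mem_span_singleton, ← e, hd, map_mul]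
        exact dvd_mul_right _ _
    choose c hcm hc using hfin
    obtain ⟨e, he⟩ := (IsBezout.isPrincipal_of_FG (Ideal.span (insert t (Set.range c)))
      ⟨(Finset.univ.image c) ∪ {t}, by simp [Set.union_singleton]⟩).principal
    have he' : Ideal.span (insert t (Set.range c)) = Ideal.span {e} := he
    have hem : e ∈ maximalIdeal R := by
      refine Ideal.span_le.2 ?_ (he' ▸ Ideal.mem_span_singleton_self e : e ∈ Ideal.span _)
      rintro z (rfl | ⟨i, rfl⟩)
      · exact mem_maximalIdeal_of_complete z
      · exact hcm i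
    have he0 : e ≠ 0 := fun h0 => by
      have h1 : t ∈ Ideal.span {e} := he' ▸ Ideal.subset_span (Set.mem_insert t _)
      rw [h0, Ideal.mem_span_singleton, zero_dvd_iff] at h1
      exact ht h1
    have hstep : Jk ≤ Ideal.span {algebraMap R T e} * Jk := by
      conv_lhs => rw [← hf]
      refine Submodule.span_le.2 ?_
      rintro _ ⟨i, rfl⟩
      obtain ⟨d, hd⟩ : e ∣ c i :=
        Ideal.mem_span_singleton.1 (he' ▸ Ideal.subset_span (Set.mem_insert_of_mem t ⟨i, rfl⟩))
      obtain ⟨y, hy⟩ := Ideal.mem_span_singleton'.1 (hc i)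
      have hfi : f i = algebraMap R T e * (algebraMap R T d * y) := by
        rw [← hy, hd, map_mul]; ring
      rw [hfi]
      refine Ideal.mul_mem_mul (Ideal.mem_span_singleton_self _) ?_
      obtain ⟨j, d', hd'⟩ := exists_dvd_pow he0 (mem_maximalIdeal_of_complete t)
      refine hJsat _ j ?_
      have h1 : f i ∈ Jk := hf ▸ Submodule.subset_span ⟨i, rfl⟩
      rw [hfi] at h1
      rw [← map_pow, hd', map_mul, mul_comm (algebraMap R T e), mul_assoc]
      exact Jk.mul_mem_left _ h1
    obtain ⟨j, d', hd'⟩ := exists_dvd_pow ht hem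
    have hpow : ∀ k : ℕ, Jk ≤ Ideal.span {algebraMap R T e} ^ k * Jk := fun k => by
      induction k with
      | zero => rw [pow_zero, one_mul]
      | succ k ih => rw [pow_succ, mul_assoc]; exact ih.trans (Ideal.mul_mono le_rfl hstep)
    refine (hpow j).trans (Ideal.mul_mono ?_ le_rfl)
    rw [Ideal.span_singleton_pow, ← map_pow, hd', map_mul, Ideal.span_singleton_le_iff_mem]
    exact Ideal.mul_mem_right _ _ (Ideal.mem_span_singleton_self _)
  have hJ0 : Jk = ⊥ := Submodule.eq_bot_of_le_smul_of_le_jacobson_bot _ Jk hJfg hJle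
    (IsAdicComplete.le_jacobson_bot _)
  have hinj : Function.Injective Θ := (RingHom.injective_iff_ker_eq_bot Θ).2 hJ0
  haveI : IsDomain T := hinj.isDomain _
  -- the first variable
  let y : T := algebraMap (MvPolynomial (Fin (s + 1)) R) T (X 0)
  have hy0 : algebraMap T B y ≠ 0 := fun h => by
    have h1 : ρ (X 0) = 0 := by
      change Ideal.Quotient.mk N (algebraMap T B y) = 0
      rw [h, map_zero]
    rw [hρ] at h1
    change g (map (residue R) (X 0)) = 0 at h1
    rw [map_X] at h1
    exact X_ne_zero (R := ResidueField R) (0 : Fin (s + 1)) (hg (h1.trans (map_zero _).symm))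
  obtain ⟨k, hk⟩ : algebraMap R B t ∈ (Ideal.span {algebraMap T B y}).radical := by
    rw [Ideal.radical_eq_sInf]
    refine Submodule.mem_sInf.2 fun P ⟨hP, hPp⟩ => hprime P hPp fun h => ?_
    exact hy0 ((Submodule.mem_bot B).1 (h ▸ hP (Ideal.mem_span_singleton_self _)))
  obtain ⟨β, hβ⟩ := Ideal.mem_span_singleton'.1 hk
  obtain ⟨p, hp, hpβ⟩ := Algebra.IsIntegral.isIntegral (R := T) β
  -- evaluation at the origin
  haveI : IsAdicComplete ((Ideal.span {t}).map (RingHom.id R)) R := by rw [Ideal.map_id]; infer_instance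
  obtain ⟨ε, hε⟩ := Groth.Agent.AdicRing.exists_completion_hom
    ((Ideal.span {t}).map (C : R →+* MvPolynomial (Fin (s + 1)) R))
    (eval fun _ => (0 : R)) (Ideal.span {t}) (le_of_eq (by
      rw [Ideal.map_map, show (eval fun _ => (0 : R)).comp (C : R →+* MvPolynomial (Fin (s + 1)) R) = RingHom.id R from
        RingHom.ext fun r => eval_C r, Ideal.map_id]))
  have hεy : ε y = 0 := (hε _).trans (eval_X _)
  have hεR : ∀ r, ε (algebraMap R T r) = r := fun r => (hε (C r)).trans (eval_C r)
  have h1 : ∀ i, algebraMap T B (y ^ i) * β ^ i = algebraMap T B ((algebraMap R T t ^ k) ^ i) := fun i => by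
    rw [map_pow, map_pow, ← mul_pow, map_pow, htT, ← hβ, mul_comm β]
  let d := p.natDegree
  have h2 : ∑ i ∈ Finset.range (d + 1), p.coeff i * (algebraMap R T t ^ k) ^ i * y ^ (d - i) = 0 := by
    refine hinj ?_
    rw [map_zero, ← mul_zero (algebraMap T B (y ^ d)), ← hpβ, ← Polynomial.aeval_def,
      Polynomial.aeval_eq_sum_range, Finset.mul_sum, map_sum]
    refine Finset.sum_congr rfl fun i hi => ?_
    obtain ⟨e, he⟩ := Nat.exists_eq_add_of_le (Nat.lt_succ_iff.1 (Finset.mem_range.1 hi))
    change algebraMap T B (p.coeff i * (algebraMap R T t ^ k) ^ i * y ^ (d - i)) = _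
    rw [Algebra.smul_def, map_mul, map_mul, ← h1, show d = i + e from he, Nat.add_sub_cancel_left, pow_add, map_mul]
    ring
  have h3 := congrArg ε h2
  rw [map_sum, map_zero, Finset.sum_eq_single d] at h3
  · rw [Nat.sub_self, pow_zero, mul_one, show p.coeff d = 1 from hp, one_mul, map_pow, map_pow, hεR] at h3
    exact pow_ne_zero _ (pow_ne_zero _ ht) h3
  · intro i hi hid
    rw [map_mul, map_pow ε y, hεy, zero_pow (by have := Finset.mem_range.1 hi; lia), mul_zero]
  · exact fun h => absurd (Finset.self_mem_range_succ d) h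

include ht in
theorem ringKrullDim_eq_one : ringKrullDim R = 1 := by
  refine le_antisymm ((Order.krullDimLE_iff _ _).1 ‹Ring.KrullDimLE 1 R›) ?_
  let bot' : PrimeSpectrum R := ⟨⊥, Ideal.isPrime_bot⟩
  let top' : PrimeSpectrum R := ⟨maximalIdeal R, (maximalIdeal.isMaximal R).isPrime⟩
  have hlt : bot' < top' := by
    refine lt_of_le_of_ne bot_le fun h => ht ?_
    have h1 : (⊥ : Ideal R) = maximalIdeal R := congrArg PrimeSpectrum.asIdeal h
    exact (Submodule.mem_bot R).1 (h1 ▸ mem_maximalIdeal_of_complete t)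
  exact le_iSup_of_le ((RelSeries.singleton _ bot').snoc top' hlt) le_rfl

include ht in
theorem ringKrullDim_of_finite {B : Type u} [CommRing B] [IsDomain B] [Algebra R B] [Module.Finite R B]
    (h : algebraMap R B t ≠ 0) : ringKrullDim B = 1 := by
  rw [← DimLib.ringKrullDim_eq_of_isIntegral (injective_algebraMap_of_ne_zero t ht h)]
  exact ringKrullDim_eq_one t ht

include ht in
theorem finite_of_ringKrullDim_one {B : Type v} [CommRing B] [IsDomain B] [Algebra R B]
    (hB : AdicRing.TopFiniteType R (Ideal.span {t}) B) (htB : algebraMap R B t ≠ 0)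
    (hdim : ringKrullDim B = 1) : Module.Finite R B := by
  haveI : Ring.KrullDimLE 1 B := (Order.krullDimLE_iff _ _).2 hdim.le
  exact finite_of_forall_isMaximal t ht hB fun P hP htP =>
    Ideal.IsPrime.isMaximal_of_ne_bot hP fun h => htB ((Submodule.mem_bot B).1 (h ▸ htP))

end Groth.Agent.ValTate
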