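import Groth.Agent.ValTate.Presentation
import Groth.Agent.ValTate.Rigid
import Mathlib.RingTheory.Flat.TorsionFree
import Mathlib.RingTheory.IntegralClosure.IsIntegral.Basic
import Mathlib.RingTheory.Finiteness.Basic

/-!
# Finite algebras over algebras topologically of finite type; admissible algebras
-/

universe u v

open scoped TensorProduct

namespace Groth.Agent.ValTate

variable {R : Type u} [CommRing R]

/-- A finite algebra over a tft algebra is tft. -/
theorem topFiniteType_of_finite {I : Ideal R} (hR : AdicRing.IsBase R I) {A : Type u} [CommRing A]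
    [Algebra R A] (hA : AdicRing.TopFiniteType R I A) (B : Type u) [CommRing B] [Algebra A B]
    [Algebra R B] [IsScalarTower R A B] [Module.Finite A B] : AdicRing.TopFiniteType R I B := by
  have hI := isBase_fg hR
  have := isAdicComplete_topFiniteType I hR hA
  have hmap : (I.map (algebraMap R A)).map (algebraMap A B) = I.map (algebraMap R B) := by
    rw [Ideal.map_map, ← IsScalarTower.algebraMap_eq]
  have : IsAdicComplete (I.map (algebraMap R B)) B := by
    rw [← hmap]
    exact (IsAdicComplete.map_algebraMap_iff (S := B) _ B).2 (tame_of_topFiniteType I hR hA).isAdicComplete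
  rw [topFiniteType_iff_finiteType hI]
  have := (topFiniteType_iff_finiteType hI).1 hA
  let f : A ⧸ I.map (algebraMap R A) →ₐ[R] B ⧸ I.map (algebraMap R B) :=
    Ideal.quotientMapₐ (I := I.map (algebraMap R A)) (I.map (algebraMap R B))
      (IsScalarTower.toAlgHom R A B) (hmap ▸ Ideal.le_comap_map)
  have hfin : f.toRingHom.Finite := by
    refine RingHom.Finite.of_comp_finite (f := Ideal.Quotient.mk (I.map (algebraMap R A))) ?_
    change ((Ideal.Quotient.mk (I.map (algebraMap R B))).comp (algebraMap A B)).Finite
    exact RingHom.Finite.comp (RingHom.Finite.of_surjective _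
      (Ideal.Quotient.mk_surjective (I := I.map (algebraMap R B))))
      (RingHom.finite_algebraMap.2 (inferInstance : Module.Finite A B))
  rw [← RingHom.finiteType_algebraMap]
  rw [← f.comp_algebraMap]
  exact hfin.finiteType.comp (RingHom.finiteType_algebraMap.2 this)

variable [IsDomain R] [ValuationRing R] [Ring.KrullDimLE 1 R] (t : R) [IsAdicComplete (Ideal.span {t}) R]
  (ht : t ≠ 0)

theorem smul_eq_zero_of_noPowTorsion {M : Type v} [AddCommGroup M] [Module R M]
    (hM : AdicRing.NoPowTorsion (Ideal.span {t}) M) {c : R} (hc : c ≠ 0) {x : M} (hx : c • x = 0) :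
    x = 0 := by
  obtain ⟨k, d, hd⟩ := exists_dvd_pow hc (mem_maximalIdeal_of_complete t)
  refine hM x k fun a ha => ?_
  rw [Ideal.span_singleton_pow, Ideal.mem_span_singleton'] at ha
  obtain ⟨b, rfl⟩ := ha
  rw [hd, mul_comm c d, ← mul_assoc, mul_smul, hx, smul_zero]

theorem flat_of_noPowTorsion (M : Type v) [AddCommGroup M] [Module R M]
    (hM : AdicRing.NoPowTorsion (Ideal.span {t}) M) : Module.Flat R M := by
  rw [Module.Flat.flat_iff_torsion_eq_bot_of_isBezout, eq_bot_iff]
  rintro x ⟨⟨c, hc⟩, hx⟩
  exact (Submodule.mem_bot R).2 (smul_eq_zero_of_noPowTorsion t hM (nonZeroDivisors.ne_zero hc) hx)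

omit [ValuationRing R] [Ring.KrullDimLE 1 R] [IsAdicComplete (Ideal.span {t}) R] in
include ht in
theorem noPowTorsion_of_isScalarTower_fraction (M : Type v) [AddCommGroup M] [Module R M]
    [Module (FractionRing R) M] [IsScalarTower R (FractionRing R) M] :
    AdicRing.NoPowTorsion (Ideal.span {t}) M := fun x n hx => by
  have h := hx (t ^ n) (Ideal.pow_mem_pow (Ideal.mem_span_singleton_self t) n)
  rw [← algebraMap_smul (FractionRing R)] at h
  exact (smul_eq_zero.1 h).resolve_left fun h0 => pow_ne_zero n ht
    ((IsFractionRing.injective R (FractionRing R)) (h0.trans (map_zero _).symm))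

omit [IsDomain R] [ValuationRing R] [Ring.KrullDimLE 1 R] [IsAdicComplete (Ideal.span {t}) R] in
theorem noPowTorsion_of_injective {M N : Type v} [AddCommGroup M] [Module R M] [AddCommGroup N]
    [Module R N] (f : M →ₗ[R] N) (hf : Function.Injective f)
    (hN : AdicRing.NoPowTorsion (Ideal.span {t}) N) : AdicRing.NoPowTorsion (Ideal.span {t}) M :=
  fun x n hx => hf ((hN (f x) n fun a ha => by rw [← map_smul, hx a ha, map_zero]).trans (map_zero f).symm)

end Groth.Agent.ValTate

namespace Groth.Agent.ValTate

theorem eq_zero_of_smul_tensor_fraction {R : Type u} [CommRing R] [IsDomain R] {A : Type u} [CommRing A]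
    [Algebra R A] {c : R} (hc : c ≠ 0) {y : A ⊗[R] FractionRing R} (hy : c • y = 0) : y = 0 := by
  have h1 : c • ((1 : A) ⊗ₜ[R] (algebraMap R (FractionRing R) c)⁻¹) = 1 := by
    rw [← TensorProduct.tmul_smul, Algebra.smul_def, mul_inv_cancel₀ fun h => hc
      (IsFractionRing.injective R (FractionRing R) (h.trans (map_zero _).symm))]
    rfl
  rw [← one_mul y, ← h1, smul_mul_assoc, ← mul_smul_comm, hy, mul_zero]

end Groth.Agent.ValTate
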