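import Groth.Agent.ValTate.Presentation
import Mathlib.RingTheory.Localization.Ideal
import Mathlib.RingTheory.Finiteness.FinitePresentationLocal
import Mathlib.RingTheory.Finiteness.FiniteTypeLocal
import Mathlib.RingTheory.RingHom.FinitePresentation

/-!
# Truncations of complete localizations
-/

universe u

namespace Groth.Agent.ValTate

variable {R : Type u} [CommRing R] {I : Ideal R} {A : Type u} [CommRing A] [Algebra R A]

/-- The truncation `L/I^kL` of the localization `L = A[f⁻¹]`, as the quotient by the extension of an
ideal of `A`. -/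
abbrev locTrunc (I : Ideal R) (f : A) (k : ℕ) : Type u :=
  Localization.Away f ⧸ ((I ^ k).map (algebraMap R A)).map (algebraMap A (Localization.Away f))

theorem map_map_loc (I : Ideal R) (f : A) (k : ℕ) :
    ((I ^ k).map (algebraMap R A)).map (algebraMap A (Localization.Away f)) =
      (I ^ k).map (algebraMap R (Localization.Away f)) := by
  rw [Ideal.map_map, ← IsScalarTower.algebraMap_eq]

theorem cLoc_isAdicComplete (hI : I.FG) (f : A) :
    IsAdicComplete (I.map (algebraMap R (AdicRing.CLoc I f))) (AdicRing.CLoc I f) := by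
  have h := AdicCompletion.isAdicComplete_self (I.map (algebraMap R (Localization.Away f))) (hI.map _)
  rw [Ideal.map_map, ← IsScalarTower.algebraMap_eq] at h
  exact h

theorem exists_cLocTruncEquiv (hI : I.FG) (f : A) (k : ℕ) :
    Nonempty (locTrunc I f k ≃ₐ[R]
      AdicRing.CLoc I f ⧸ (I ^ k).map (algebraMap R (AdicRing.CLoc I f))) := by
  let L := Localization.Away f
  let C := AdicRing.CLoc I f
  let K : Ideal L := I.map (algebraMap R L)
  obtain ⟨hs, hker⟩ := completion_mk_pow K (hI.map _) k
  let g : L →ₐ[R] C ⧸ (K.map (algebraMap L C)) ^ k :=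
    (Ideal.Quotient.mkₐ R _).comp (IsScalarTower.toAlgHom R L C)
  have hg : RingHom.ker g.toRingHom = K ^ k := hker
  have h1 : ((I ^ k).map (algebraMap R A)).map (algebraMap A L) = RingHom.ker g.toRingHom := by
    rw [hg, map_map_loc, map_pow_eq_pow]
  have h2 : (K.map (algebraMap L C)) ^ k = (I ^ k).map (algebraMap R C) := by
    rw [map_pow_eq_pow, Ideal.map_map, ← IsScalarTower.algebraMap_eq]
  exact ⟨(Ideal.quotientEquivAlgOfEq R h1).trans ((Ideal.quotientKerAlgEquivOfSurjective
    (f := g) hs).trans (Ideal.quotientEquivAlgOfEq R h2))⟩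

theorem isLocalizationAway_locTrunc (I : Ideal R) (f : A) (k : ℕ) :
    IsLocalization.Away (Ideal.Quotient.mk ((I ^ k).map (algebraMap R A)) f) (locTrunc I f k) := by
  have h : IsLocalization (Algebra.algebraMapSubmonoid (A ⧸ (I ^ k).map (algebraMap R A))
      (Submonoid.powers f)) (locTrunc I f k) := inferInstance
  rw [Algebra.algebraMapSubmonoid_powers] at h
  exact h

instance isScalarTower_locTrunc (I : Ideal R) (f : A) (k : ℕ) :
    IsScalarTower R (A ⧸ (I ^ k).map (algebraMap R A)) (locTrunc I f k) :=
  IsScalarTower.of_algebraMap_eq fun r => by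
    change _ = algebraMap (A ⧸ (I ^ k).map (algebraMap R A)) (locTrunc I f k)
      (Ideal.Quotient.mk _ (algebraMap R A r))
    rw [Ideal.Quotient.algebraMap_quotient_map_quotient, ← IsScalarTower.algebraMap_apply]
    rfl

section Cover

variable {r : ℕ} (f : Fin r → A) (hf : Ideal.span (Set.range f) = ⊤) (k : ℕ)

include hf in
theorem span_range_mk : Ideal.span (Set.range fun i =>
    Ideal.Quotient.mk ((I ^ k).map (algebraMap R A)) (f i)) = ⊤ := by
  have h := congrArg (Ideal.map (Ideal.Quotient.mk ((I ^ k).map (algebraMap R A)))) hf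
  rw [Ideal.map_span, Ideal.map_top, ← Set.range_comp] at h
  exact h

theorem finitePresentation_locTrunc (i : Fin r)
    [Algebra.FinitePresentation R (A ⧸ (I ^ k).map (algebraMap R A))] :
    Algebra.FinitePresentation R (locTrunc I (f i) k) := by
  have := isLocalizationAway_locTrunc I (f i) k
  have : Algebra.FinitePresentation (A ⧸ (I ^ k).map (algebraMap R A)) (locTrunc I (f i) k) :=
    IsLocalization.Away.finitePresentation (Ideal.Quotient.mk _ (f i))
  exact Algebra.FinitePresentation.trans R (A ⧸ (I ^ k).map (algebraMap R A)) _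

theorem finiteType_locTrunc (i : Fin r)
    [Algebra.FiniteType R (A ⧸ (I ^ k).map (algebraMap R A))] :
    Algebra.FiniteType R (locTrunc I (f i) k) := by
  have := isLocalizationAway_locTrunc I (f i) k
  have : Algebra.FinitePresentation (A ⧸ (I ^ k).map (algebraMap R A)) (locTrunc I (f i) k) :=
    IsLocalization.Away.finitePresentation (Ideal.Quotient.mk _ (f i))
  exact Algebra.FiniteType.trans (R := R) (S := A ⧸ (I ^ k).map (algebraMap R A))
    inferInstance inferInstance

include hf in
theorem finitePresentation_of_locTrunc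
    (h : ∀ i, Algebra.FinitePresentation R (locTrunc I (f i) k)) :
    Algebra.FinitePresentation R (A ⧸ (I ^ k).map (algebraMap R A)) := by
  have := fun i => isLocalizationAway_locTrunc I (f i) k
  exact Algebra.FinitePresentation.of_span_eq_top_target_of_isLocalizationAway _
    (span_range_mk f hf k) fun i => locTrunc I (f i) k

include hf in
theorem finiteType_of_locTrunc (h : ∀ i, Algebra.FiniteType R (locTrunc I (f i) k)) :
    Algebra.FiniteType R (A ⧸ (I ^ k).map (algebraMap R A)) := by
  refine Algebra.FiniteType.of_span_eq_top_target _ (span_range_mk f hf k) ?_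
  rintro _ ⟨i, rfl⟩
  have := isLocalizationAway_locTrunc I (f i) k
  exact Algebra.FiniteType.equiv (h i)
    ((IsLocalization.algEquiv (Submonoid.powers (Ideal.Quotient.mk ((I ^ k).map (algebraMap R A)) (f i)))
      (locTrunc I (f i) k) (Localization.Away _)).restrictScalars R)

end Cover

theorem topFiniteType_iff_forall_cLoc (hI : I.FG) [IsAdicComplete (I.map (algebraMap R A)) A]
    {r : ℕ} (f : Fin r → A) (hf : Ideal.span (Set.range f) = ⊤) :
    AdicRing.TopFiniteType R I A ↔ ∀ i, AdicRing.TopFiniteType R I (AdicRing.CLoc I (f i)) := by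
  have h1 : ∀ i, AdicRing.TopFiniteType R I (AdicRing.CLoc I (f i)) ↔
      Algebra.FiniteType R (locTrunc I (f i) 1) := fun i => by
    have := cLoc_isAdicComplete hI (f i)
    obtain ⟨e⟩ := exists_cLocTruncEquiv hI (f i) 1
    rw [topFiniteType_iff_finiteType hI]
    let e' := e.trans (Ideal.quotientEquivAlgOfEq R
      (show (I ^ 1).map (algebraMap R (AdicRing.CLoc I (f i))) = _ by rw [pow_one]))
    exact ⟨fun h => h.equiv e'.symm, fun h => h.equiv e'⟩
  rw [forall_congr' h1, topFiniteType_iff_finiteType hI]
  let e := Ideal.quotientEquivAlgOfEq R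
    (show (I ^ 1).map (algebraMap R A) = I.map (algebraMap R A) by rw [pow_one])
  constructor
  · intro h i
    have := h.equiv e.symm
    exact finiteType_locTrunc f 1 i
  · intro h
    exact (finiteType_of_locTrunc f hf 1 h).equiv e

theorem topFinitePresentation_iff_forall_cLoc (hR : AdicRing.IsBase R I)
    [IsAdicComplete (I.map (algebraMap R A)) A]
    {r : ℕ} (f : Fin r → A) (hf : Ideal.span (Set.range f) = ⊤) :
    AdicRing.TopFinitePresentation R I A ↔
      ∀ i, AdicRing.TopFinitePresentation R I (AdicRing.CLoc I (f i)) := by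
  have hI := isBase_fg hR
  have h1 : ∀ i, AdicRing.TopFinitePresentation R I (AdicRing.CLoc I (f i)) ↔
      ∀ k, Algebra.FinitePresentation R (locTrunc I (f i) (k + 1)) := fun i => by
    have := cLoc_isAdicComplete hI (f i)
    rw [topFinitePresentation_iff_trunc hR]
    refine forall_congr' fun k => ?_
    obtain ⟨e⟩ := exists_cLocTruncEquiv hI (f i) (k + 1)
    exact ⟨fun h => Algebra.FinitePresentation.equiv e.symm, fun h => Algebra.FinitePresentation.equiv e⟩
  rw [forall_congr' h1, topFinitePresentation_iff_trunc hR]
  exact ⟨fun h i k => haveI := h k; finitePresentation_locTrunc f (k + 1) i,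
    fun h k => finitePresentation_of_locTrunc f hf (k + 1) fun i => h i k⟩

/-- Flat modules over a ring without power torsion have no power torsion. -/
theorem noPowTorsion_of_flat_algebra (hI : I.FG) (hA : AdicRing.NoPowTorsion I A) (M : Type u)
    [AddCommGroup M] [Module A M] [Module R M] [IsScalarTower R A M] [Module.Flat A M] :
    AdicRing.NoPowTorsion I M := by
  intro x n hx
  obtain ⟨k, a, ha⟩ := Submodule.fg_iff_exists_fin_generating_family.1 (hI.pow (n := n))
  let L : A →ₗ[A] (Fin k → A) := LinearMap.pi fun i => algebraMap R A (a i) • LinearMap.id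
  have hL : Function.Injective L := (injective_iff_map_eq_zero _).2 fun y hy => hA y n fun b hb => by
    rw [← ha] at hb
    induction hb using Submodule.span_induction with
    | mem b hb =>
      obtain ⟨i, rfl⟩ := hb
      rw [Algebra.smul_def]
      exact congrFun hy i
    | zero => exact zero_smul R y
    | add b c _ _ hb hc => rw [add_smul, hb, hc, add_zero]
    | smul c b _ hb => rw [smul_assoc, hb, smul_zero]
  have h := Module.Flat.lTensor_preserves_injective_linearMap (M := M) L hL
  have h0 : L.lTensor M (TensorProduct.tmul A x (1 : A)) = 0 := by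
    refine (TensorProduct.piScalarRight A A M (Fin k)).injective ?_
    rw [LinearMap.lTensor_tmul, map_zero]
    funext i
    simp only [L, TensorProduct.piScalarRight_apply, TensorProduct.piScalarRightHom_tmul, LinearMap.pi_apply,
      LinearMap.smul_apply, LinearMap.id_apply, Pi.zero_apply, algebraMap_smul, smul_one_smul]
    exact hx (a i) (ha ▸ Submodule.subset_span ⟨i, rfl⟩)
  have h1 := congrArg (TensorProduct.rid A M) (h (h0.trans (map_zero _).symm))
  simpa using h1

theorem noPowTorsion_iff_forall_cLoc (hR : AdicRing.IsBase R I) (hA : AdicRing.TopFiniteType R I A)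
    {r : ℕ} (f : Fin r → A) (hf : Ideal.span (Set.range f) = ⊤) :
    AdicRing.NoPowTorsion I A ↔ ∀ i, AdicRing.NoPowTorsion I (AdicRing.CLoc I (f i)) := by
  have hI := isBase_fg hR
  constructor
  · intro h i
    have : Module.Flat (Localization.Away (f i)) (AdicRing.CLoc I (f i)) :=
      (tame_of_finiteType I hR hA (Localization.Away (f i))).flat_adicCompletion
    have : Module.Flat A (Localization.Away (f i)) :=
      IsLocalization.flat _ (Submonoid.powers (f i))
    have : Module.Flat A (AdicRing.CLoc I (f i)) :=
      Module.Flat.trans A (Localization.Away (f i)) _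
    exact noPowTorsion_of_flat_algebra hI h _
  · intro h x n hx
    have := isAdicComplete_topFiniteType I hR hA
    refine IsHausdorff.haus (I := I.map (algebraMap R A)) inferInstance x fun k => ?_
    rw [SModEq.zero, smul_eq_mul, Ideal.mul_top, ← map_pow_eq_pow]
    have hz : ∀ i, ∃ m : ℕ, (f i) ^ m * x ∈ (I ^ k).map (algebraMap R A) := by
      intro i
      have h0 : algebraMap A (AdicRing.CLoc I (f i)) x = 0 := h i _ n fun a ha => by
        rw [Algebra.smul_def, IsScalarTower.algebraMap_apply R A, ← map_mul, ← Algebra.smul_def,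
          hx a ha, map_zero]
      obtain ⟨-, hker⟩ := completion_mk_pow (I.map (algebraMap R (Localization.Away (f i)))) (hI.map _) k
      have h2 : algebraMap A (Localization.Away (f i)) x ∈
          (I.map (algebraMap R (Localization.Away (f i)))) ^ k := by
        rw [← hker, RingHom.mem_ker, RingHom.comp_apply, ← IsScalarTower.algebraMap_apply, h0, map_zero]
      rw [← map_pow_eq_pow, ← map_map_loc] at h2
      obtain ⟨_, ⟨m, rfl⟩, hm⟩ := (IsLocalization.algebraMap_mem_map_algebraMap_iff
        (Submonoid.powers (f i)) _ _ _).1 h2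
      exact ⟨m, hm⟩
    refine Submodule.mem_of_span_eq_top_of_smul_pow_mem _ _ hf x ?_
    rintro ⟨_, i, rfl⟩
    exact hz i

end Groth.Agent.ValTate
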