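import Groth.Agent.ValTate.Base
import Mathlib.RingTheory.Henselian
import Mathlib.RingTheory.Idempotents
import Mathlib.RingTheory.Artinian.Ring
import Mathlib.RingTheory.IntegralClosure.IntegrallyClosed
import Mathlib.RingTheory.Valuation.Integral

/-!
# Finite algebras over complete valuation rings of height one
-/

universe u v w

open IsLocalRing

namespace Groth.Agent.ValTate

/-- A separated module finite modulo `a` over an `a`-adically complete ring is finite. -/
theorem finite_of_forall_eq_add_smul {T : Type v} [CommRing T] (a : T) [IsAdicComplete (Ideal.span {a}) T]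
    {M : Type w} [AddCommGroup M] [Module T M] [IsHausdorff (Ideal.span {a}) M] {ι : Type*} [Fintype ι]
    (g : ι → M) (h : ∀ x : M, ∃ c : ι → T, ∃ z : M, x = (∑ i, c i • g i) + a • z) : Module.Finite T M := by
  classical
  refine ⟨⟨Finset.univ.image g, eq_top_iff.2 fun x _ => ?_⟩⟩
  choose c z hz using h
  let w : ℕ → M := fun k => Nat.rec x (fun _ y => z y) k
  have hw : ∀ k, x = (∑ i, (∑ j ∈ Finset.range k, a ^ j * c (w j) i) • g i) + a ^ k • w k := by
    intro k
    induction k with
    | zero => simp [w]
    | succ k ih =>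
      conv_lhs => rw [ih, hz (w k)]
      simp only [Finset.sum_range_succ, add_smul, Finset.sum_add_distrib, smul_add, Finset.smul_sum,
        smul_smul, pow_succ]
      rw [add_assoc]
  have hcau : ∀ i, ∀ {p q : ℕ}, p ≤ q → (∑ j ∈ Finset.range p, a ^ j * c (w j) i) ≡
      (∑ j ∈ Finset.range q, a ^ j * c (w j) i) [SMOD (Ideal.span {a} ^ p • ⊤ : Submodule T T)] := by
    intro i p q hpq
    rw [SModEq.sub_mem, smul_eq_mul, Ideal.mul_top, Ideal.span_singleton_pow, Ideal.mem_span_singleton,
      ← neg_sub, dvd_neg, ← Finset.sum_Ico_eq_sub _ hpq]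
    exact Finset.dvd_sum fun j hj => (pow_dvd_pow a (Finset.mem_Ico.1 hj).1).mul_right _
  choose L hL using fun i => IsPrecomplete.prec' (I := Ideal.span {a}) _ (@hcau i)
  have hxL : x = ∑ i, L i • g i := by
    refine sub_eq_zero.1 (IsHausdorff.haus' (I := Ideal.span {a}) (x - ∑ i, L i • g i) fun k => ?_)
    rw [SModEq.zero]
    conv in x - _ => rw [hw k]
    rw [add_sub_right_comm, ← Finset.sum_sub_distrib]
    refine add_mem (Submodule.sum_mem _ fun i _ => ?_) ?_
    · rw [← sub_smul]
      refine Submodule.smul_mem_smul ?_ Submodule.mem_top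
      have h1 := hL i k
      rwa [SModEq.sub_mem, smul_eq_mul, Ideal.mul_top] at h1
    · exact Submodule.smul_mem_smul (Ideal.pow_mem_pow (Ideal.mem_span_singleton_self a) k) Submodule.mem_top
  rw [hxL]
  exact Submodule.sum_mem _ fun i _ => Submodule.smul_mem _ _
    (Submodule.subset_span (Finset.mem_coe.2 (Finset.mem_image_of_mem g (Finset.mem_univ i))))

/-- Finite type and integral modulo a nil ideal implies finite. -/
theorem finite_of_isIntegral_mod_nil {S B C : Type*} [CommRing S] [CommRing B] [CommRing C] [Algebra S B]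
    [Algebra.FiniteType S B] [Algebra S C] (f : B →ₐ[S] C)
    (hker : ∀ x, f x = 0 → IsNilpotent x) [Module.Finite S C] : Module.Finite S B := by
  have : Algebra.IsIntegral S B := ⟨fun x => by
    obtain ⟨p, hp, hpx⟩ := Algebra.IsIntegral.isIntegral (R := S) (f x)
    obtain ⟨k, hk⟩ := hker (Polynomial.aeval x p) (by rwa [← Polynomial.aeval_algHom_apply])
    exact ⟨p ^ k, hp.pow k, by rw [← Polynomial.aeval_def, map_pow, hk]⟩⟩
  exact Algebra.IsIntegral.finite

variable {R : Type u} [CommRing R] [IsDomain R] [ValuationRing R] [Ring.KrullDimLE 1 R]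
  (t : R) [IsAdicComplete (Ideal.span {t}) R]

omit [Ring.KrullDimLE 1 R] in
theorem mem_maximalIdeal_of_complete [Nontrivial R] : t ∈ maximalIdeal R :=
  (Ideal.span_singleton_le_iff_mem _).1
    ((IsAdicComplete.le_jacobson_bot (Ideal.span {t})).trans (IsLocalRing.jacobson_eq_maximalIdeal ⊥ bot_ne_top).le)

variable (ht : t ≠ 0)

omit [IsAdicComplete (Ideal.span {t}) R] in
include ht in
/-- The base hypotheses in the form of `IsBase`. -/
theorem isBase_of_valuationRing [IsAdicComplete (Ideal.span {t}) R] : AdicRing.IsBase R (Ideal.span {t}) :=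
  ⟨inferInstance, Or.inr ⟨inferInstance, inferInstance, inferInstance, t, ht, rfl⟩⟩

include ht in
theorem isAdicComplete_of_finite_module (M : Type v) [AddCommGroup M] [Module R M] [Module.Finite R M] :
    IsAdicComplete (Ideal.span {t}) M := by
  have h := tame_of_topFiniteType (Ideal.span {t}) (isBase_of_valuationRing t ht)
    (topFiniteType_self (isBase_of_valuationRing t ht))
  rw [Algebra.algebraMap_self, Ideal.map_id] at h
  exact h.isAdicComplete

omit [IsAdicComplete (Ideal.span {t}) R] in
include ht in
/-- Elements of `B` in the extension of the maximal ideal are nilpotent modulo `t`. -/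
theorem exists_pow_mem_span [IsAdicComplete (Ideal.span {t}) R] {B : Type v} [CommRing B] [Algebra R B]
    {x : B} (hx : x ∈ (maximalIdeal R).map (algebraMap R B)) :
    ∃ k : ℕ, x ^ k ∈ Ideal.span {algebraMap R B t} := by
  have h : (maximalIdeal R).map (algebraMap R B) ≤ (Ideal.span {algebraMap R B t}).radical := by
    refine Ideal.map_le_iff_le_comap.2 fun c hc => ?_
    obtain ⟨k, hk⟩ := exists_dvd_pow ht hc
    exact ⟨k, Ideal.mem_span_singleton.2 (map_pow (algebraMap R B) c k ▸ map_dvd (algebraMap R B) hk)⟩
  exact h hx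

include ht in
/-- A domain finite over a complete valuation ring of height one is local. -/
theorem isLocalRing_of_finite_domain {B : Type v} [CommRing B] [IsDomain B] [Algebra R B]
    [Module.Finite R B] : IsLocalRing B := by
  let J : Ideal B := Ideal.span {algebraMap R B t}
  have hJ : (Ideal.span {t}).map (algebraMap R B) = J := by rw [Ideal.map_span, Set.image_singleton]
  haveI : IsAdicComplete J B :=
    hJ ▸ (IsAdicComplete.map_algebraMap_iff (S := B) _ B).2 (isAdicComplete_of_finite_module t ht B)
  obtain ⟨M₁, hM₁⟩ := Ideal.exists_maximal B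
  refine IsLocalRing.of_unique_max_ideal ⟨M₁, hM₁, fun M₂ hM₂ => ?_⟩
  by_contra hne
  let N : Ideal B := (maximalIdeal R).map (algebraMap R B)
  have hJle : ∀ M : Ideal B, M.IsMaximal → J ≤ M := fun M hM =>
    le_trans (IsAdicComplete.le_jacobson_bot J) (sInf_le ⟨bot_le, hM⟩)
  have hNle : ∀ M : Ideal B, M.IsMaximal → N ≤ M := fun M hM x hx => by
    obtain ⟨k, hk⟩ := exists_pow_mem_span t ht hx
    exact hM.isPrime.mem_of_pow_mem k (hJle M hM hk)
  obtain ⟨x, hx1, hx2⟩ : ∃ x ∈ M₁, x ∉ M₂ := by
    by_contra h
    push Not at h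
    exact hne (hM₁.eq_of_le hM₂.ne_top h).symm
  haveI : IsArtinianRing (B ⧸ N) := by
    letI : Algebra (ResidueField R) (B ⧸ N) :=
      (Ideal.Quotient.lift (maximalIdeal R) ((Ideal.Quotient.mk N).comp (algebraMap R B))
        (fun a ha => Ideal.Quotient.eq_zero_iff_mem.2 (Ideal.mem_map_of_mem _ ha))).toAlgebra
    haveI : IsScalarTower R (ResidueField R) (B ⧸ N) := IsScalarTower.of_algebraMap_eq (fun a => rfl)
    haveI : Module.Finite R (B ⧸ N) := Module.Finite.of_surjective (Ideal.Quotient.mkₐ R N).toLinearMap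
      Ideal.Quotient.mk_surjective
    haveI : Module.Finite (ResidueField R) (B ⧸ N) := Module.Finite.of_restrictScalars_finite R _ _
    exact IsArtinianRing.of_finite (ResidueField R) (B ⧸ N)
  obtain ⟨n, y, hy⟩ := IsArtinian.exists_pow_succ_smul_dvd (Ideal.Quotient.mk N x) (1 : B ⧸ N)
  simp only [smul_eq_mul, mul_one] at hy
  set a : B ⧸ N := Ideal.Quotient.mk N x with ha
  have key : ∀ k, a ^ n = a ^ (n + k) * y ^ k := by
    intro k
    induction k with
    | zero => simp
    | succ k ih =>
      calc a ^ n = a ^ (n + k) * y ^ k := ih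
        _ = a ^ k * a ^ n * y ^ k := by ring
        _ = a ^ k * (a ^ (n + 1) * y) * y ^ k := by rw [hy]
        _ = _ := by ring
  let ebar : B ⧸ N := a ^ (n + 1) * y ^ (n + 1)
  have hebar : IsIdempotentElem ebar := by
    change a ^ (n + 1) * y ^ (n + 1) * (a ^ (n + 1) * y ^ (n + 1)) = a ^ (n + 1) * y ^ (n + 1)
    calc a ^ (n + 1) * y ^ (n + 1) * (a ^ (n + 1) * y ^ (n + 1))
        = a * (a ^ (n + (n + 1)) * y ^ (n + 1)) * y ^ (n + 1) := by ring
      _ = a * a ^ n * y ^ (n + 1) := by rw [← key (n + 1)]
      _ = _ := by ring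
  have hJN : J ≤ N := (Ideal.span_singleton_le_iff_mem _).2
    (Ideal.mem_map_of_mem _ (mem_maximalIdeal_of_complete t))
  obtain ⟨e', he', hee⟩ := exists_isIdempotentElem_eq_of_ker_isNilpotent (Ideal.Quotient.factor hJN)
    (fun z hz => by
      obtain ⟨z, rfl⟩ := Ideal.Quotient.mk_surjective z
      obtain ⟨k, hk⟩ := exists_pow_mem_span t ht (Ideal.Quotient.eq_zero_iff_mem.1 hz)
      exact ⟨k, by rw [← map_pow]; exact Ideal.Quotient.eq_zero_iff_mem.2 hk⟩)
    ebar (by obtain ⟨z, hz⟩ := Ideal.Quotient.factor_surjective hJN ebar; exact ⟨z, hz⟩) hebar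
  obtain ⟨e, rfl⟩ := Ideal.Quotient.mk_surjective e'
  have hee' : Ideal.Quotient.mk N e = ebar := hee
  have hidem : e * e - e ∈ J := by
    rw [← Ideal.Quotient.eq_zero_iff_mem, map_sub, map_mul, sub_eq_zero]
    exact he'
  let φ₁ : B ⧸ N →+* B ⧸ M₁ := Ideal.Quotient.factor (hNle M₁ hM₁)
  let φ₂ : B ⧸ N →+* B ⧸ M₂ := Ideal.Quotient.factor (hNle M₂ hM₂)
  have hmk1 : Ideal.Quotient.mk M₁ e = φ₁ ebar := by rw [← hee']; rfl
  have hmk2 : Ideal.Quotient.mk M₂ e = φ₂ ebar := by rw [← hee']; rfl
  have he1 : e ∈ M₁ := by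
    rw [← Ideal.Quotient.eq_zero_iff_mem, hmk1, map_mul, map_pow, map_pow,
      show φ₁ a = Ideal.Quotient.mk M₁ x from rfl, Ideal.Quotient.eq_zero_iff_mem.2 hx1, zero_pow n.succ_ne_zero,
      zero_mul]
  have he2 : e ∉ M₂ := by
    intro h
    haveI := hM₂
    letI := Ideal.Quotient.field M₂
    have h0 : φ₂ ebar = 0 := hmk2 ▸ Ideal.Quotient.eq_zero_iff_mem.2 h
    have h1 := congrArg φ₂ (key (n + 1))
    rw [map_mul, map_pow, map_pow, map_pow] at h1
    rw [map_mul, map_pow, map_pow] at h0
    rw [pow_add (φ₂ a) n (n + 1), mul_assoc, h0, mul_zero] at h1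
    refine hx2 (Ideal.Quotient.eq_zero_iff_mem.1 ?_)
    exact eq_zero_of_pow_eq_zero h1
  let f : Polynomial B := Polynomial.X ^ 2 - Polynomial.X
  have hfm : f.Monic := by
    have : f = Polynomial.X ^ (1 + 1) + (-Polynomial.X) := by ring
    rw [this]
    apply Polynomial.monic_X_pow_add
    rw [Polynomial.degree_neg]
    exact lt_of_le_of_lt Polynomial.degree_X_le (by norm_num)
  obtain ⟨r, hr, hre⟩ := HenselianRing.is_henselian (I := J) f hfm e
    (by simpa [f, sq] using hidem)
    (by
      refine ⟨⟨Ideal.Quotient.mk J (2 * e - 1), Ideal.Quotient.mk J (2 * e - 1), ?_, ?_⟩, ?_⟩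
      · rw [← map_mul, ← map_one (Ideal.Quotient.mk J), Ideal.Quotient.eq]
        have : (2 * e - 1) * (2 * e - 1) - 1 = 4 * (e * e - e) := by ring
        rw [this]; exact J.mul_mem_left _ hidem
      · rw [← map_mul, ← map_one (Ideal.Quotient.mk J), Ideal.Quotient.eq]
        have : (2 * e - 1) * (2 * e - 1) - 1 = 4 * (e * e - e) := by ring
        rw [this]; exact J.mul_mem_left _ hidem
      · simp [f, map_ofNat]; norm_num)
  have hr' : r * (r - 1) = 0 := by
    have : r ^ 2 - r = 0 := by simpa [f, Polynomial.IsRoot.def] using hr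
    linear_combination this
  rcases mul_eq_zero.1 hr' with h | h
  · apply he2
    have := hJle M₂ hM₂ hre
    rw [h, zero_sub] at this
    exact neg_mem_iff.1 this
  · apply hM₁.ne_top
    rw [Ideal.eq_top_iff_one]
    have := M₁.add_mem (hJle M₁ hM₁ hre) he1
    rw [sub_add_cancel, sub_eq_zero.1 h] at this
    exact this

include ht in
/-- An integral domain extension of a complete valuation ring of height one is local. -/
theorem isLocalRing_of_isIntegral_domain {B : Type v} [CommRing B] [IsDomain B] [Algebra R B]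
    [Algebra.IsIntegral R B] : IsLocalRing B := by
  refine IsLocalRing.of_isUnit_or_isUnit_one_sub_self fun x => ?_
  haveI : Module.Finite R (Algebra.adjoin R {x}) :=
    Module.Finite.iff_fg.2 (Algebra.IsIntegral.isIntegral x).fg_adjoin_singleton
  haveI := isLocalRing_of_finite_domain t ht (B := Algebra.adjoin R {x})
  let x' : Algebra.adjoin R {x} := ⟨x, Algebra.self_mem_adjoin_singleton R x⟩
  rcases IsLocalRing.isUnit_or_isUnit_one_sub_self x' with h | h
  · exact Or.inl (h.map (Algebra.adjoin R {x}).val)
  · exact Or.inr (by simpa using h.map (Algebra.adjoin R {x}).val)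

/-- Root of a polynomial with a unit coefficient over an integrally closed local ring. -/
theorem mem_or_inv_mem {L : Type*} [Field L] (O : Subring L) [IsLocalRing O]
    (hO : ∀ y : L, IsIntegral O y → y ∈ O) (x : L) :
    ∀ (n : ℕ) (c : ℕ → O), (∃ i ≤ n, IsUnit (c i)) → ∑ i ∈ Finset.range (n + 1), (c i : L) * x ^ i = 0 →
      x ∈ O ∨ x⁻¹ ∈ O := by
  classical
  intro n
  induction n with
  | zero =>
    intro c ⟨i, hi, hu⟩ h0
    rw [Nat.le_zero.1 hi] at hu
    simp at h0
    exact absurd h0 hu.ne_zero
  | succ n ih =>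
    intro c ⟨i, hi, hu⟩ h0
    by_cases hx0 : x = 0
    · exact Or.inl (hx0 ▸ O.zero_mem)
    by_cases htop : IsUnit (c (n + 1))
    · -- monic after rescaling
      refine Or.inl (hO x ?_)
      obtain ⟨u, hu⟩ := htop
      let p : Polynomial O := Polynomial.X ^ (n + 1) +
        ∑ j ∈ Finset.range (n + 1), Polynomial.C ((↑u⁻¹ : O) * c j) * Polynomial.X ^ j
      refine ⟨p, Polynomial.monic_X_pow_add ?_, ?_⟩
      · refine lt_of_le_of_lt (Polynomial.degree_sum_le _ _) ?_
        refine (Finset.sup_lt_iff (WithBot.bot_lt_coe _)).2 fun j hj => ?_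
        exact lt_of_le_of_lt (Polynomial.degree_C_mul_X_pow_le _ _) (by exact_mod_cast Finset.mem_range.1 hj)
      · simp only [p, Polynomial.eval₂_add, Polynomial.eval₂_pow, Polynomial.eval₂_X,
          Polynomial.eval₂_finsetSum, Polynomial.eval₂_mul, Polynomial.eval₂_C]
        have h1 : ((↑u⁻¹ : O) : L) * (c (n + 1) : L) = 1 := by
          rw [← hu]
          exact_mod_cast congrArg Subtype.val u.inv_mul
        have h2 := congrArg (((↑u⁻¹ : O) : L) * ·) h0
        rw [Finset.sum_range_succ, mul_add, ← mul_assoc _ (c (n + 1) : L), h1, one_mul, mul_zero,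
          Finset.mul_sum] at h2
        rw [add_comm] at h2
        refine Eq.trans ?_ h2
        congr 1
        exact Finset.sum_congr rfl fun j _ => by
          change (((↑u⁻¹ : O) * c j : O) : L) * x ^ j = _
          push_cast
          ring
    · -- the top coefficient times the root is integral
      have hb : (c (n + 1) : L) * x ∈ O := by
        refine hO _ ?_
        let p : Polynomial O := Polynomial.X ^ (n + 1) +
          ∑ j ∈ Finset.range (n + 1), Polynomial.C (c j * c (n + 1) ^ (n - j)) * Polynomial.X ^ j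
        refine ⟨p, Polynomial.monic_X_pow_add ?_, ?_⟩
        · refine lt_of_le_of_lt (Polynomial.degree_sum_le _ _) ?_
          refine (Finset.sup_lt_iff (WithBot.bot_lt_coe _)).2 fun j hj => ?_
          exact lt_of_le_of_lt (Polynomial.degree_C_mul_X_pow_le _ _) (by exact_mod_cast Finset.mem_range.1 hj)
        · simp only [p, Polynomial.eval₂_add, Polynomial.eval₂_pow, Polynomial.eval₂_X,
            Polynomial.eval₂_finsetSum, Polynomial.eval₂_mul, Polynomial.eval₂_C]
          have h2 := congrArg ((c (n + 1) : L) ^ n * ·) h0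
          rw [Finset.sum_range_succ, mul_add, mul_zero, Finset.mul_sum, add_comm] at h2
          refine Eq.trans ?_ h2
          congr 1
          · rw [mul_pow, ← mul_assoc, ← pow_succ]
          · refine Finset.sum_congr rfl fun j hj => ?_
            change ((c j * c (n + 1) ^ (n - j) : O) : L) * ((c (n + 1) : L) * x) ^ j = _
            push_cast
            obtain ⟨e, rfl⟩ := Nat.exists_eq_add_of_le (Nat.lt_succ_iff.1 (Finset.mem_range.1 hj))
            rw [Nat.add_sub_cancel_left, pow_add, mul_pow]
            ring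
      let b : O := ⟨_, hb⟩
      by_cases hbu : IsUnit (b + c n)
      · by_cases hbb : IsUnit b
        · -- the inverse is integral
          refine Or.inr ?_
          obtain ⟨u, hu⟩ := hbb
          have : x⁻¹ = ((c (n + 1) * (↑u⁻¹ : O) : O) : L) := by
            have h1 : ((b : O) : L) * ((↑u⁻¹ : O) : L) = 1 := by
              rw [← hu]
              exact_mod_cast congrArg Subtype.val u.mul_inv
            refine inv_eq_of_mul_eq_one_right ?_
            push_cast
            rw [← mul_assoc, mul_comm x, h1]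
          rw [this]
          exact Subtype.coe_prop _
        · refine ih (fun j => if j = n then b + c n else c j) ⟨n, le_rfl, by simpa using hbu⟩ ?_
          rw [Finset.sum_range_succ] at h0 ⊢
          rw [Finset.sum_range_succ] at h0
          rw [if_pos rfl, Finset.sum_congr rfl fun j hj => by
            rw [if_neg (Nat.ne_of_lt (Finset.mem_range.1 hj))]]
          refine Eq.trans ?_ h0
          change _ + ((c (n + 1) : L) * x + (c n : L)) * x ^ n = _
          ring
      · by_cases hbb : IsUnit b
        · refine Or.inr ?_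
          obtain ⟨u, hu⟩ := hbb
          have : x⁻¹ = ((c (n + 1) * (↑u⁻¹ : O) : O) : L) := by
            have h1 : ((b : O) : L) * ((↑u⁻¹ : O) : L) = 1 := by
              rw [← hu]
              exact_mod_cast congrArg Subtype.val u.mul_inv
            refine inv_eq_of_mul_eq_one_right ?_
            push_cast
            rw [← mul_assoc, mul_comm x, h1]
          rw [this]
          exact Subtype.coe_prop _
        · have hcn : ¬ IsUnit (c n) := fun h => by
            have h3 : c n = (b + c n) + (-1) * b := by ring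
            rcases IsLocalRing.isUnit_or_isUnit_of_isUnit_add (h3 ▸ h) with h4 | h4
            · exact hbu h4
            · exact hbb (isUnit_of_mul_isUnit_right h4)
          have hi' : i ≤ n := by
            rcases Nat.lt_or_ge i (n + 1) with h4 | h4
            · lia
            · exact absurd ((le_antisymm hi h4) ▸ hu) htop
          have hin : i ≠ n := fun h4 => hcn (h4 ▸ hu)
          refine ih (fun j => if j = n then b + c n else c j) ⟨i, hi', by simpa [hin] using hu⟩ ?_
          rw [Finset.sum_range_succ] at h0 ⊢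
          rw [Finset.sum_range_succ] at h0
          rw [if_pos rfl, Finset.sum_congr rfl fun j hj => by
            rw [if_neg (Nat.ne_of_lt (Finset.mem_range.1 hj))]]
          refine Eq.trans ?_ h0
          change _ + ((c (n + 1) : L) * x + (c n : L)) * x ^ n = _
          ring

include ht in
/-- The integral closure of a complete valuation ring of height one in an algebraic extension of its
fraction field is a valuation ring. -/
theorem valuationRing_integralClosure (L : Type v) [Field L] [Algebra R L]
    [Algebra.IsAlgebraic R L] [FaithfulSMul R L] : ValuationRing (integralClosure R L) := by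
  classical
  haveI := isLocalRing_of_isIntegral_domain t ht (B := integralClosure R L)
  let O : Subring L := (integralClosure R L).toSubring
  haveI : IsLocalRing O := ‹IsLocalRing (integralClosure R L)›
  have hO : ∀ y : L, IsIntegral O y → y ∈ O := fun y hy =>
    isIntegral_trans (A := integralClosure R L) y hy
  have key : ∀ x : L, x ∈ O ∨ x⁻¹ ∈ O := fun x => by
    obtain ⟨p, hp0, hpx⟩ := Algebra.IsAlgebraic.isAlgebraic (R := R) x
    obtain ⟨g, hg⟩ := (IsBezout.isPrincipal_of_FG (Ideal.span (p.coeffs : Set R)) ⟨p.coeffs, rfl⟩).principal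
    have hg' : Ideal.span (p.coeffs : Set R) = Ideal.span {g} := hg
    have hd : ∀ i, g ∣ p.coeff i := fun i => by
      by_cases hi : p.coeff i = 0
      · rw [hi]; exact dvd_zero g
      · exact Ideal.mem_span_singleton.1 (hg' ▸ Ideal.subset_span (Finset.mem_coe.2 (Polynomial.coeff_mem_coeffs hi)))
    choose d hd using hd
    have hg0 : g ≠ 0 := fun h => hp0 (Polynomial.ext fun i => by rw [hd i, h, zero_mul, Polynomial.coeff_zero])
    have hunit : ∃ i ≤ p.natDegree, IsUnit (d i) := by
      by_contra! hno
      have h1 : Ideal.span (p.coeffs : Set R) ≤ Ideal.span {g} * maximalIdeal R := Ideal.span_le.2 fun z hz => by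
        obtain ⟨i, hi, rfl⟩ := Polynomial.mem_coeffs_iff.1 (Finset.mem_coe.1 hz)
        rw [hd i]
        exact Ideal.mul_mem_mul (Ideal.mem_span_singleton_self g)
          (hno i (Polynomial.le_natDegree_of_mem_supp i hi))
      obtain ⟨μ, hμ, hμg⟩ := Ideal.mem_span_singleton_mul.1 (h1 (hg' ▸ Ideal.mem_span_singleton_self g))
      rcases mul_eq_zero.1 (show g * (1 - μ) = 0 by rw [mul_sub, mul_one, hμg, sub_self]) with h | h
      · exact hg0 h
      · exact (mem_maximalIdeal _).1 hμ (sub_eq_zero.1 h ▸ isUnit_one)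
    obtain ⟨i, hi, hiu⟩ := hunit
    by_cases hgL : algebraMap R L g = 0
    · exact absurd ((FaithfulSMul.algebraMap_injective R L) (hgL.trans (map_zero _).symm)) hg0
    refine mem_or_inv_mem O hO x p.natDegree (fun j => algebraMap R (integralClosure R L) (d j))
      ⟨i, hi, hiu.map _⟩ (mul_left_cancel₀ hgL ?_)
    rw [mul_zero, Finset.mul_sum, ← hpx, Polynomial.aeval_eq_sum_range]
    refine Finset.sum_congr rfl fun j _ => ?_
    rw [Algebra.smul_def, hd j, map_mul, mul_assoc]
    rfl
  exact ValuationRing.iff_dvd_total.2 ⟨fun a b => by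
    by_cases ha : a = 0
    · exact Or.inr (ha ▸ dvd_zero b)
    by_cases hb : b = 0
    · exact Or.inl (hb ▸ dvd_zero a)
    rcases key ((b : L) / (a : L)) with h | h
    · refine Or.inl ⟨⟨_, h⟩, Subtype.ext ?_⟩
      have ha' : (a : L) ≠ 0 := fun h0 => ha (Subtype.ext h0)
      change (b : L) = (a : L) * ((b : L) / (a : L))
      field_simp
    · refine Or.inr ⟨⟨_, h⟩, Subtype.ext ?_⟩
      have hb' : (b : L) ≠ 0 := fun h0 => hb (Subtype.ext h0)
      change (a : L) = (b : L) * ((b : L) / (a : L))⁻¹
      field_simp⟩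

end Groth.Agent.ValTate
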