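import Mathlib.RingTheory.Flat.Tensor
import Mathlib.RingTheory.Flat.Stability
import Mathlib.RingTheory.AdicCompletion.Basic
import Mathlib.RingTheory.Flat.FaithfullyFlat.Basic
import Mathlib.LinearAlgebra.TensorProduct.RightExactness

/-!
# Flatness over truncations
-/

universe u

open scoped TensorProduct

namespace Groth.Agent.ValTate

variable {A : Type u} [CommRing A] {C : Type u} [CommRing C] [Algebra A C] {M : Type u}
  [AddCommGroup M] [Module A M]

theorem rTensor_cancelBaseChange' {N N' : Type u} [AddCommGroup N] [Module A N] [Module C N]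
    [IsScalarTower A C N] [AddCommGroup N'] [Module A N'] [Module C N'] [IsScalarTower A C N']
    (f : N →ₗ[C] N') (x : N ⊗[C] (C ⊗[A] M)) :
    (f.restrictScalars A).rTensor M (TensorProduct.AlgebraTensorModule.cancelBaseChange A C C N M x) =
      TensorProduct.AlgebraTensorModule.cancelBaseChange A C C N' M (f.rTensor (C ⊗[A] M) x) := by
  induction x using TensorProduct.induction_on with
  | zero => simp
  | tmul n y =>
    induction y using TensorProduct.induction_on with
    | zero => simp
    | tmul b m => simp
    | add y z hy hz => simp only [TensorProduct.tmul_add, map_add, hy, hz]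
  | add x y hx hy => simp only [map_add, hx, hy]

theorem rTensor_injective_of_flat_baseChange [Module.Flat C (C ⊗[A] M)] {N N' : Type u}
    [AddCommGroup N] [Module A N] [Module C N] [IsScalarTower A C N] [AddCommGroup N'] [Module A N']
    [Module C N'] [IsScalarTower A C N'] (f : N →ₗ[C] N') (hf : Function.Injective f) :
    Function.Injective ((f.restrictScalars A).rTensor M) := by
  have h := Module.Flat.rTensor_preserves_injective_linearMap (M := C ⊗[A] M) f hf
  intro x y hxy
  obtain ⟨x, rfl⟩ := (TensorProduct.AlgebraTensorModule.cancelBaseChange A C C N M).surjective x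
  obtain ⟨y, rfl⟩ := (TensorProduct.AlgebraTensorModule.cancelBaseChange A C C N M).surjective y
  rw [rTensor_cancelBaseChange' f, rTensor_cancelBaseChange' f] at hxy
  rw [h ((TensorProduct.AlgebraTensorModule.cancelBaseChange A C C N' M).injective hxy)]

theorem finite_tensor_of_fg {B : Type u} [CommRing B] [Algebra A B] [Module B M] [IsScalarTower A B M]
    [Module.Finite B M] (P : Type u) [AddCommGroup P] [Module A P] [Module.Finite A P] :
    Module.Finite B (M ⊗[A] P) := by
  classical
  obtain ⟨s, hs⟩ := ‹Module.Finite B M›.fg_top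
  obtain ⟨t, ht⟩ := ‹Module.Finite A P›.fg_top
  refine ⟨⟨(s ×ˢ t).image fun p => p.1 ⊗ₜ[A] p.2, Submodule.eq_top_iff'.2 fun x => ?_⟩⟩
  induction x using TensorProduct.induction_on with
  | zero => exact zero_mem _
  | add x y hx hy => exact add_mem hx hy
  | tmul m p =>
    have hm : m ∈ Submodule.span B (s : Set M) := hs ▸ Submodule.mem_top
    induction hm using Submodule.span_induction with
    | zero => rw [TensorProduct.zero_tmul]; exact zero_mem _
    | add m n _ _ hm hn => rw [TensorProduct.add_tmul]; exact add_mem hm hn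
    | smul b m _ hm => rw [← TensorProduct.smul_tmul']; exact Submodule.smul_mem _ b hm
    | mem m hm =>
      have hp : p ∈ Submodule.span A (t : Set P) := ht ▸ Submodule.mem_top
      induction hp using Submodule.span_induction with
      | zero => rw [TensorProduct.tmul_zero]; exact zero_mem _
      | add p q _ _ hp hq => rw [TensorProduct.tmul_add]; exact add_mem hp hq
      | smul a p _ hp => rw [TensorProduct.tmul_smul]; exact Submodule.smul_of_tower_mem _ a hp
      | mem p hp =>
        exact Submodule.subset_span (Finset.mem_image.2 ⟨(m, p), Finset.mem_product.2 ⟨hm, hp⟩, rfl⟩)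

/-- Flatness of a finite module over an algebra is detected on truncations. -/
theorem flat_of_forall_flat_quotient {B : Type u} [CommRing B] [Algebra A B] [Module B M]
    [IsScalarTower A B M] [Module.Finite B M] (J : Ideal A)
    (har : ∀ a : Ideal A, ∃ n₀ : ℕ, ∀ k : ℕ, J ^ (k + n₀) • ⊤ ⊓ a ≤ J ^ k • (a : Submodule A A))
    (hsep : ∀ (P : Type u) [AddCommGroup P] [Module B P] [Module.Finite B P],
      IsHausdorff (J.map (algebraMap A B)) P)
    (h : ∀ k : ℕ, Module.Flat (A ⧸ J ^ k) ((A ⧸ J ^ k) ⊗[A] M)) :
    Module.Flat A M := by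
  rw [Module.Flat.iff_lTensor_injective]
  intro a ha
  have : Module.Finite A a := Module.Finite.iff_fg.2 ha
  have := finite_tensor_of_fg (B := B) (M := M) (A := A) a
  refine (injective_iff_map_eq_zero _).2 fun x hx => ?_
  refine (hsep (M ⊗[A] a)).haus x fun k => ?_
  rw [SModEq.zero]
  obtain ⟨n₀, hn₀⟩ := har a
  let C := A ⧸ J ^ (k + n₀)
  have hfl : Module.Flat C (C ⊗[A] M) := h (k + n₀)
  let a' : Ideal C := a.map (Ideal.Quotient.mk _)
  let g : a →ₗ[A] a' :=
    { toFun := fun y => ⟨Ideal.Quotient.mk _ (y : A), Ideal.mem_map_of_mem _ y.2⟩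
      map_add' := fun y z => Subtype.ext (map_add (Ideal.Quotient.mk _) (y : A) z)
      map_smul' := fun c y => Subtype.ext (by
        change Ideal.Quotient.mk (J ^ (k + n₀)) (c * (y : A)) = c • Ideal.Quotient.mk _ (y : A)
        rw [map_mul, Algebra.smul_def]
        rfl) }
  have hg : Function.Surjective g := fun y => by
    obtain ⟨z, hz, hzy⟩ := (Ideal.mem_map_iff_of_surjective _ Ideal.Quotient.mk_surjective).1 y.2
    exact ⟨⟨z, hz⟩, Subtype.ext hzy⟩
  have hinj : Function.Injective (((a'.subtype).restrictScalars A).lTensor M) := by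
    have h1 := rTensor_injective_of_flat_baseChange (M := M) (A := A) (C := C) a'.subtype
      Subtype.val_injective
    rw [← LinearMap.lTensor_inj_iff_rTensor_inj] at h1
    exact h1
  have h0 : g.lTensor M x = 0 := by
    refine hinj ?_
    rw [map_zero, ← LinearMap.lTensor_comp_apply,
      show (a'.subtype.restrictScalars A).comp g = (Algebra.linearMap A C).comp a.subtype from rfl,
      LinearMap.lTensor_comp_apply, hx, map_zero]
  obtain ⟨y, rfl⟩ := (lTensor_exact M (LinearMap.exact_subtype_ker_map g) hg x).1 h0
  clear hx h0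
  induction y using TensorProduct.induction_on with
  | zero => rw [map_zero]; exact zero_mem _
  | add y z hy hz => rw [map_add]; exact add_mem hy hz
  | tmul m y =>
    rw [LinearMap.lTensor_tmul]
    have h2 : ((y : a) : A) ∈ J ^ k • (a : Submodule A A) := hn₀ k
      ⟨by
        rw [Ideal.smul_top_eq_map, Algebra.algebraMap_self, Ideal.map_id]
        exact Ideal.Quotient.eq_zero_iff_mem.1 (congrArg Subtype.val (LinearMap.mem_ker.1 y.2)),
        (y : a).2⟩
    have h3 : (y : a) ∈ J ^ k • (⊤ : Submodule A a) := (Submodule.mem_smul_top_iff _ _ _).2 h2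
    change m ⊗ₜ[A] (y : a) ∈ _
    generalize (y : a) = w at h3 ⊢
    refine Submodule.smul_induction_on h3 (fun c hc z _ => ?_) fun u v hu hv => ?_
    · rw [TensorProduct.tmul_smul, ← IsScalarTower.algebraMap_smul B c (m ⊗ₜ[A] z)]
      exact Submodule.smul_mem_smul (Ideal.map_pow (algebraMap A B) J k ▸ Ideal.mem_map_of_mem _ hc)
        Submodule.mem_top
    · rw [TensorProduct.tmul_add]
      exact add_mem hu hv

/-- A flat module whose reduction modulo an ideal in the Jacobson radical is faithfully flat is
faithfully flat. -/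
theorem faithfullyFlat_of_quotient (J : Ideal A) (hJ : J ≤ Ideal.jacobson ⊥) [Module.Flat A M]
    [Module.FaithfullyFlat (A ⧸ J) ((A ⧸ J) ⊗[A] M)] : Module.FaithfullyFlat A M := by
  refine ⟨fun m hm htop => ?_⟩
  have hJm : J ≤ m := hJ.trans (sInf_le ⟨bot_le, hm⟩)
  have hm' : (m.map (Ideal.Quotient.mk J)).IsMaximal :=
    (Ideal.map_eq_top_or_isMaximal_of_surjective _ Ideal.Quotient.mk_surjective hm).resolve_left fun ht => by
      have := congrArg (Ideal.comap (Ideal.Quotient.mk J)) ht
      rw [Ideal.comap_map_of_surjective _ Ideal.Quotient.mk_surjective, Ideal.comap_top,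
        ← RingHom.ker_eq_comap_bot, Ideal.mk_ker, sup_eq_left.2 hJm] at this
      exact hm.ne_top this
  refine Module.FaithfullyFlat.submodule_ne_top (R := A ⧸ J) (M := (A ⧸ J) ⊗[A] M) hm' (Submodule.eq_top_iff'.2 fun x => ?_)
  induction x using TensorProduct.induction_on with
  | zero => exact zero_mem _
  | add x y hx hy => exact add_mem hx hy
  | tmul b y =>
    have hy : y ∈ m • (⊤ : Submodule A M) := by rw [htop]; exact Submodule.mem_top
    refine Submodule.smul_induction_on hy (fun c hc z _ => ?_) fun u v hu hv => ?_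
    · rw [TensorProduct.tmul_smul, ← IsScalarTower.algebraMap_smul (A ⧸ J) c (b ⊗ₜ[A] z)]
      exact Submodule.smul_mem_smul (Ideal.mem_map_of_mem _ hc) Submodule.mem_top
    · rw [TensorProduct.tmul_add]
      exact add_mem hu hv

end Groth.Agent.ValTate
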