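import Mathlib.RingTheory.Flat.Tensor
import Mathlib.RingTheory.Flat.Stability
import Mathlib.RingTheory.Flat.Localization
import Mathlib.RingTheory.Localization.BaseChange
import Mathlib.LinearAlgebra.DirectSum.Finsupp
import Mathlib.LinearAlgebra.Finsupp.LinearCombination

/-!
# Flatness detected modulo and away from a nonzero divisor
-/

universe u v w

open scoped TensorProduct

namespace Groth.Agent.ValTate

variable {A : Type u} [CommRing A] (π : A) {M : Type v} [AddCommGroup M] [Module A M]
  (htf : ∀ (x : M), π • x = 0 → x = 0)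
  (hflat : Module.Flat (A ⧸ Ideal.span {π}) ((A ⧸ Ideal.span {π}) ⊗[A] M))

theorem rTensor_cancelBaseChange {N N' : Type u} [AddCommGroup N] [Module A N] [Module (A ⧸ Ideal.span {π}) N]
    [IsScalarTower A (A ⧸ Ideal.span {π}) N] [AddCommGroup N'] [Module A N']
    [Module (A ⧸ Ideal.span {π}) N'] [IsScalarTower A (A ⧸ Ideal.span {π}) N']
    (f : N →ₗ[A ⧸ Ideal.span {π}] N') (x : N ⊗[A ⧸ Ideal.span {π}] ((A ⧸ Ideal.span {π}) ⊗[A] M)) :
    (f.restrictScalars A).rTensor M (TensorProduct.AlgebraTensorModule.cancelBaseChange A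
      (A ⧸ Ideal.span {π}) (A ⧸ Ideal.span {π}) N M x) =
    TensorProduct.AlgebraTensorModule.cancelBaseChange A
      (A ⧸ Ideal.span {π}) (A ⧸ Ideal.span {π}) N' M (f.rTensor ((A ⧸ Ideal.span {π}) ⊗[A] M) x) := by
  induction x using TensorProduct.induction_on with
  | zero => simp
  | tmul n y =>
    induction y using TensorProduct.induction_on with
    | zero => simp
    | tmul b m => simp
    | add y z hy hz => simp only [TensorProduct.tmul_add, map_add, hy, hz]
  | add x y hx hy => simp only [map_add, hx, hy]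

/-- Injective maps of `A/π`-modules stay injective after tensoring with `M`. -/
theorem rTensor_injective_of_killed (hflat : Module.Flat (A ⧸ Ideal.span {π}) ((A ⧸ Ideal.span {π}) ⊗[A] M))
    {N N' : Type u} [AddCommGroup N] [Module A N] [Module (A ⧸ Ideal.span {π}) N]
    [IsScalarTower A (A ⧸ Ideal.span {π}) N] [AddCommGroup N'] [Module A N']
    [Module (A ⧸ Ideal.span {π}) N'] [IsScalarTower A (A ⧸ Ideal.span {π}) N']
    (f : N →ₗ[A ⧸ Ideal.span {π}] N') (hf : Function.Injective f) :
    Function.Injective ((f.restrictScalars A).rTensor M) := by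
  have h := Module.Flat.rTensor_preserves_injective_linearMap
    (M := (A ⧸ Ideal.span {π}) ⊗[A] M) f hf
  intro x y hxy
  obtain ⟨x, rfl⟩ := (TensorProduct.AlgebraTensorModule.cancelBaseChange A
    (A ⧸ Ideal.span {π}) (A ⧸ Ideal.span {π}) N M).surjective x
  obtain ⟨y, rfl⟩ := (TensorProduct.AlgebraTensorModule.cancelBaseChange A
    (A ⧸ Ideal.span {π}) (A ⧸ Ideal.span {π}) N M).surjective y
  rw [rTensor_cancelBaseChange π f, rTensor_cancelBaseChange π f] at hxy
  rw [h ((TensorProduct.AlgebraTensorModule.cancelBaseChange A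
    (A ⧸ Ideal.span {π}) (A ⧸ Ideal.span {π}) N' M).injective hxy)]

theorem mapRange_exact {ι : Type u} (K : Submodule A (ι →₀ A)) (hK : ∀ x, π • x ∈ K)
    (m : (ι →₀ A) →ₗ[A] (ι →₀ A ⧸ Ideal.span {π}))
    (hm : ∀ x s, m x s = Ideal.Quotient.mk (Ideal.span {π}) (x s)) :
    Function.Exact (((LinearMap.lsmul A (ι →₀ A)) π).codRestrict K hK) (m.comp K.subtype) := by
  classical
  intro x
  constructor
  · intro hx
    have h2 : ∀ s, ∃ c, c * π = (x : ι →₀ A) s := fun s => Ideal.mem_span_singleton'.1
      (Ideal.Quotient.eq_zero_iff_mem.1 ((hm _ s).symm.trans (DFunLike.congr_fun hx s)))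
    choose c hc using h2
    refine ⟨Finsupp.onFinset (x : ι →₀ A).support
      (fun s => if s ∈ (x : ι →₀ A).support then c s else 0)
      (fun s hs => by by_contra h; exact hs (if_neg h)), Subtype.ext (Finsupp.ext fun s => ?_)⟩
    change π * _ = (x : ι →₀ A) s
    simp only [Finsupp.onFinset_apply]
    split_ifs with h
    · rw [mul_comm, hc]
    · rw [mul_zero, Finsupp.notMem_support_iff.1 h]
  · rintro ⟨y, rfl⟩
    refine Finsupp.ext fun s => (hm _ s).trans ?_
    change Ideal.Quotient.mk _ (π * y s) = 0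
    rw [map_mul, Ideal.Quotient.eq_zero_iff_mem.2 (Ideal.mem_span_singleton_self π), zero_mul]

include htf hflat in
theorem rTensor_injective_finsupp {ι : Type u} (K : Submodule A (ι →₀ A)) (hπK : ∀ x, π • x ∈ K) :
    Function.Injective (K.subtype.rTensor M) := by
  classical
  let m : (ι →₀ A) →ₗ[A] (ι →₀ A ⧸ Ideal.span {π}) :=
    Finsupp.mapRange.linearMap (Algebra.linearMap A (A ⧸ Ideal.span {π}))
  let Kb : Submodule (A ⧸ Ideal.span {π}) (ι →₀ A ⧸ Ideal.span {π}) :=
    Submodule.span _ (m '' K)
  have hKb : Kb.restrictScalars A = K.map m := by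
    rw [Submodule.restrictScalars_span A _ Ideal.Quotient.mk_surjective, ← Submodule.map_span,
      Submodule.span_eq]
  obtain ⟨mK, hmKv⟩ : ∃ mK : K →ₗ[A] Kb, ∀ x, (mK x : ι →₀ A ⧸ Ideal.span {π}) = m x :=
    ⟨{ toFun := fun x => ⟨m x, Submodule.subset_span ⟨x, x.2, rfl⟩⟩
       map_add' := fun x y => Subtype.ext (map_add m _ _)
       map_smul' := fun c x => Subtype.ext (map_smul m c (x : ι →₀ A)) }, fun _ => rfl⟩
  have hmK : Function.Surjective mK := fun y => by
    obtain ⟨x, hx, hxy⟩ := (hKb.le y.2 : (y : ι →₀ A ⧸ Ideal.span {π}) ∈ K.map m)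
    exact ⟨⟨x, hx⟩, Subtype.ext ((hmKv _).trans hxy)⟩
  have hex : Function.Exact (((LinearMap.lsmul A (ι →₀ A)) π).codRestrict K hπK) mK := fun x => by
    rw [← mapRange_exact π K hπK m (fun _ _ => rfl) x, ← Subtype.coe_inj, hmKv]
    rfl
  let _ : AddCommGroup (K ⊗[A] M) := Module.addCommMonoidToAddCommGroup A
  refine (injective_iff_map_eq_zero _).2 fun z hz => ?_
  have h1 : mK.rTensor M z = 0 := by
    refine rTensor_injective_of_killed (N := Kb) (N' := ι →₀ A ⧸ Ideal.span {π}) π hflat Kb.subtype
      Kb.injective_subtype ?_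
    rw [map_zero, ← LinearMap.rTensor_comp_apply,
      show (Kb.subtype.restrictScalars A).comp mK = m.comp K.subtype from LinearMap.ext hmKv,
      LinearMap.rTensor_comp_apply, hz, map_zero]
  have hexT := rTensor_exact (R := A) (M := ι →₀ A) (N := K) (P := Kb)
    (f := ((LinearMap.lsmul A (ι →₀ A)) π).codRestrict K hπK) (g := mK) M hex hmK
  obtain ⟨y, rfl⟩ := (hexT z).1 h1
  rw [← LinearMap.rTensor_comp_apply,
    show K.subtype.comp (((LinearMap.lsmul A (ι →₀ A)) π).codRestrict K hπK) = (LinearMap.lsmul A (ι →₀ A)) π from rfl] at hz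
  have h2 : π • y = 0 := by
    rw [← hz]
    exact (LinearMap.congr_fun (show π • LinearMap.id = ((LinearMap.lsmul A (ι →₀ A)) π).rTensor M by
      ext; simp [TensorProduct.smul_tmul']) y)
  have h3 : TensorProduct.finsuppScalarLeft A M ι y = 0 := by
    refine Finsupp.ext fun s => htf _ ?_
    rw [← Finsupp.smul_apply, ← map_smul, h2, map_zero, Finsupp.zero_apply]
  rw [(LinearEquiv.map_eq_zero_iff _).1 h3, map_zero]

include htf hflat in
/-- A module over which `π` is torsion free, flat modulo `π`, has no `Tor₁` against modules killed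
by `π`. -/
theorem rTensor_injective_of_smul_mem {Q : Type u} [AddCommGroup Q] [Module A Q] (P : Submodule A Q)
    (hP : ∀ x : Q, π • x ∈ P) : Function.Injective (P.subtype.rTensor M) := by
  obtain ⟨q, hq⟩ : ∃ q : (Q →₀ A) →ₗ[A] Q, Function.Surjective q :=
    ⟨Finsupp.linearCombination A id,
      fun x => ⟨Finsupp.single x 1, (Finsupp.linearCombination_single A 1 x).trans (one_smul A x)⟩⟩
  have hK := rTensor_injective_finsupp π htf hflat (P.comap q) fun x => by
    rw [Submodule.mem_comap, map_smul]
    exact hP _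
  let qK : P.comap q →ₗ[A] P := (q.comp (P.comap q).subtype).codRestrict P fun x => x.2
  have hqK : Function.Surjective qK := fun y => by
    obtain ⟨x, hx⟩ := hq y
    exact ⟨⟨x, by change q x ∈ P; rw [hx]; exact y.2⟩, Subtype.ext hx⟩
  refine (injective_iff_map_eq_zero _).2 fun x hx => ?_
  obtain ⟨z, rfl⟩ := LinearMap.rTensor_surjective M hqK x
  rw [← LinearMap.rTensor_comp_apply, show P.subtype.comp qK = q.comp (P.comap q).subtype from rfl,
    LinearMap.rTensor_comp_apply] at hx
  obtain ⟨r, hr⟩ := (rTensor_exact (R := A) (M := LinearMap.ker q) (f := (LinearMap.ker q).subtype) (g := q) M (LinearMap.exact_subtype_ker_map q) hq _).1 hx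
  let ι : LinearMap.ker q →ₗ[A] P.comap q := Submodule.inclusion fun y hy => by
    change q y ∈ P
    rw [hy]
    exact P.zero_mem
  have hz : z = ι.rTensor M r := hK (by rw [← hr, ← LinearMap.rTensor_comp_apply]; rfl)
  rw [hz, ← LinearMap.rTensor_comp_apply,
    show qK.comp ι = 0 from LinearMap.ext fun y => Subtype.ext y.2, LinearMap.rTensor_zero, LinearMap.zero_apply]

include htf hflat in
theorem flat_of_flat_mod_of_flat_away (hπ : π ∈ nonZeroDivisors A)
    (haway : Module.Flat (Localization.Away π) (Localization.Away π ⊗[A] M)) : Module.Flat A M := by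
  let L := Localization.Away π
  rw [Module.Flat.iff_rTensor_injective]
  intro a ha
  refine (injective_iff_map_eq_zero _).2 fun x hx => ?_
  -- some power of `π` kills the kernel
  have : Module.Flat A L := IsLocalization.flat L (Submonoid.powers π)
  have : Module.Flat A (L ⊗[A] M) := Module.Flat.trans A L (L ⊗[A] M)
  have h1 := Module.Flat.rTensor_preserves_injective_linearMap (M := L ⊗[A] M) a.subtype Subtype.val_injective
  have h2 : TensorProduct.mk A L (a ⊗[A] M) 1 x = 0 := by
    refine (TensorProduct.leftComm A L a M).injective (h1 ?_)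
    rw [map_zero, map_zero]
    have e : ∀ y : a ⊗[A] M, a.subtype.rTensor (L ⊗[A] M) (TensorProduct.leftComm A L a M ((1 : L) ⊗ₜ y)) =
        TensorProduct.leftComm A L A M ((1 : L) ⊗ₜ a.subtype.rTensor M y) := by
      intro y
      induction y using TensorProduct.induction_on with
      | zero => simp
      | tmul c m => simp
      | add y z hy hz => simp only [TensorProduct.tmul_add, map_add, hy, hz]
    rw [TensorProduct.mk_apply, e, hx, TensorProduct.tmul_zero, map_zero]
  obtain ⟨⟨_, k, rfl⟩, hk⟩ := (IsLocalizedModule.eq_zero_iff (Submonoid.powers π) _).1 h2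
  change π ^ k • x = 0 at hk
  -- `π` is injective on `a ⊗ M`
  let μ : a →ₗ[A] a := (LinearMap.lsmul A a) π
  have hμi : Function.Injective μ := fun y z h => Subtype.ext
    ((mul_cancel_left_mem_nonZeroDivisors hπ).1 (congrArg Subtype.val h))
  have hμ : Function.Injective (μ.rTensor M) := by
    have h3 := rTensor_injective_of_smul_mem π htf hflat (LinearMap.range μ) fun y => ⟨y, rfl⟩
    have h4 : μ.rTensor M = ((LinearMap.range μ).subtype.rTensor M).comp
        ((LinearEquiv.ofInjective μ hμi).toLinearMap.rTensor M) := by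
      rw [← LinearMap.rTensor_comp]
      rfl
    rw [h4]
    exact h3.comp (LinearEquiv.rTensor M (LinearEquiv.ofInjective μ hμi)).injective
  have hsmul : ∀ y, μ.rTensor M y = π • y := fun y =>
    LinearMap.congr_fun (show μ.rTensor M = π • LinearMap.id by ext; simp [μ, TensorProduct.smul_tmul']) y
  clear hx h2
  induction k generalizing x with
  | zero => simpa using hk
  | succ k ih =>
    refine hμ ?_
    rw [map_zero, hsmul]
    exact ih (π • x) (by rw [smul_smul, ← pow_succ]; exact hk)

end Groth.Agent.ValTate
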