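import Groth.Agent.ValTate.Module
import Groth.Agent.FSchLib.Completion
import Mathlib.RingTheory.AdicCompletion.AsTensorProduct
import Mathlib.RingTheory.Filtration
import Mathlib.RingTheory.Flat.Basic

/-!
# Tame rings: Artin–Rees and bounded torsion without Noetherianity

A ring `A` with an ideal `J` is tame if submodules of finite free modules satisfy Artin–Rees and
have finitely generated `J`-power saturation. Over such rings adic completion behaves as in the
Noetherian case.
-/

universe u v w

open scoped TensorProduct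

namespace Groth.Agent.ValTate

variable {A : Type u} [CommRing A]

section powSat

variable (J : Ideal A) {M : Type*} [AddCommGroup M] [Module A M]

/-- The `J`-power saturation of a submodule. -/
def powSat (N : Submodule A M) : Submodule A M where
  carrier := {x | ∃ n : ℕ, ∀ a ∈ J ^ n, a • x ∈ N}
  zero_mem' := ⟨0, fun a _ => by simp⟩
  add_mem' := by
    rintro x y ⟨p, hp⟩ ⟨q, hq⟩
    exact ⟨max p q, fun a ha => smul_add a x y ▸ N.add_mem
      (hp a (Ideal.pow_le_pow_right (le_max_left p q) ha))
      (hq a (Ideal.pow_le_pow_right (le_max_right p q) ha))⟩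
  smul_mem' := by
    rintro r x ⟨p, hp⟩
    exact ⟨p, fun a ha => smul_comm a r x ▸ N.smul_mem r (hp a ha)⟩

theorem le_powSat (N : Submodule A M) : N ≤ powSat J N :=
  fun _ hx => ⟨0, fun a _ => N.smul_mem a hx⟩

theorem exists_pow_smul_le_of_fg (N : Submodule A M) (h : (powSat J N).FG) :
    ∃ n : ℕ, J ^ n • powSat J N ≤ N := by
  classical
  obtain ⟨s, hs⟩ := h
  have hmem : ∀ x : s, (x : M) ∈ powSat J N := fun x => hs.le (Submodule.subset_span x.2)
  choose n hn using hmem
  refine ⟨Finset.univ.sup n, Submodule.smul_le.2 fun a ha x hx => ?_⟩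
  rw [← hs] at hx
  induction hx using Submodule.span_induction with
  | mem x hx => exact hn ⟨x, hx⟩ a (Ideal.pow_le_pow_right (Finset.le_sup (Finset.mem_univ (⟨x, hx⟩ : s))) ha)
  | zero => simp
  | add x y _ _ hx hy => exact smul_add a x y ▸ N.add_mem hx hy
  | smul r x _ hx => exact smul_comm a r x ▸ N.smul_mem r hx

end powSat

/-- Artin–Rees and finitely generated saturations for submodules of finite free modules. -/
structure Tame (J : Ideal A) : Prop where
  fg_ideal : J.FG
  artinRees : ∀ (m : ℕ) (N : Submodule A (Fin m → A)), ∃ n₀ : ℕ, ∀ k : ℕ,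
    J ^ (k + n₀) • ⊤ ⊓ N ≤ J ^ k • N
  fg_powSat : ∀ (m : ℕ) (N : Submodule A (Fin m → A)), (powSat J N).FG

theorem tame_of_isNoetherian [IsNoetherianRing A] (J : Ideal A) : Tame J where
  fg_ideal := IsNoetherian.noetherian J
  artinRees m N := by
    obtain ⟨n₀, h⟩ := Ideal.exists_pow_inf_eq_pow_smul J N
    refine ⟨n₀, fun k => ?_⟩
    rw [h (k + n₀) (Nat.le_add_left _ _), Nat.add_sub_cancel]
    exact smul_mono_right _ inf_le_right
  fg_powSat m N := IsNoetherian.noetherian _

theorem tame_of_saturated_fg {R : Type v} [CommRing R] [IsDomain R] [ValuationRing R]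
    [Ring.KrullDimLE 1 R] [Algebra R A] (t : R) (ht0 : t ≠ 0) (ht : t ∈ IsLocalRing.maximalIdeal R)
    (h : ∀ (m : ℕ) (N : Submodule A (Fin m → A)), Saturated R N → N.FG) :
    Tame (Ideal.span {algebraMap R A t}) := by
  have key : ∀ (m : ℕ) (N : Submodule A (Fin m → A)),
      powSat (Ideal.span {algebraMap R A t}) N = saturation R N := by
    intro m N
    refine le_antisymm (fun x ⟨n, hn⟩ => ⟨t ^ n, pow_ne_zero n ht0, ?pw⟩) fun x ⟨c, hc, hx⟩ => ?st
    case pw =>
      rw [map_pow]
      exact hn _ (Ideal.span_singleton_pow (algebraMap R A t) n ▸ Ideal.mem_span_singleton_self _)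
    case st =>
      obtain ⟨n, hn⟩ := exists_dvd_pow hc ht
      refine ⟨n, fun a ha => ?_⟩
      rw [Ideal.span_singleton_pow, Ideal.mem_span_singleton', ] at ha
      obtain ⟨b, rfl⟩ := ha
      obtain ⟨d, hd⟩ := hn
      rw [← map_pow, hd, map_mul, mul_smul, mul_smul,
        smul_comm (algebraMap R A c) (algebraMap R A d) x]
      exact N.smul_mem _ (N.smul_mem _ hx)
  have hfg : ∀ (m : ℕ) (N : Submodule A (Fin m → A)), (powSat (Ideal.span {algebraMap R A t}) N).FG :=
    fun m N => key m N ▸ h m _ (saturated_saturation R N)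
  refine ⟨Submodule.fg_span_singleton _, fun m N => ?_, hfg⟩
  obtain ⟨n₀, hn₀⟩ := exists_pow_smul_le_of_fg _ N (hfg m N)
  refine ⟨n₀, fun k x hx => ?_⟩
  obtain ⟨h1, h2⟩ := hx
  rw [Ideal.span_singleton_pow] at h1
  rw [Submodule.ideal_span_singleton_smul] at h1
  obtain ⟨y, -, rfl⟩ := (Submodule.mem_smul_pointwise_iff_exists _ _ _).1 h1
  have hy : y ∈ powSat (Ideal.span {algebraMap R A t}) N := by
    refine ⟨k + n₀, fun a ha => ?_⟩
    rw [Ideal.span_singleton_pow, Ideal.mem_span_singleton'] at ha
    obtain ⟨b, rfl⟩ := ha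
    exact (mul_smul b _ y).symm ▸ N.smul_mem b h2
  rw [pow_add, mul_smul]
  refine Submodule.smul_mem_smul (Ideal.pow_mem_pow (Ideal.mem_span_singleton_self _) k) ?_
  exact hn₀ (Submodule.smul_mem_smul (Ideal.pow_mem_pow (Ideal.mem_span_singleton_self _) n₀) hy)

variable {J : Ideal A} {M : Type v} [AddCommGroup M] [Module A M] [Module.Finite A M]

theorem Tame.exists_artinRees (hA : Tame J) (N : Submodule A M) :
    ∃ n₀ : ℕ, ∀ k : ℕ, J ^ (k + n₀) • ⊤ ⊓ N ≤ J ^ k • N := by
  obtain ⟨m, p, hp⟩ := Module.Finite.exists_fin' A M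
  obtain ⟨n₀, hn₀⟩ := hA.artinRees m (N.comap p)
  refine ⟨n₀, fun k x ⟨h1, h2⟩ => ?_⟩
  rw [← LinearMap.range_eq_top.2 hp, LinearMap.range_eq_map, ← Submodule.map_smul''] at h1
  obtain ⟨y, hy, rfl⟩ := h1
  rw [← Submodule.map_comap_eq_of_surjective hp N, ← Submodule.map_smul'']
  exact Submodule.mem_map_of_mem (hn₀ k ⟨hy, h2⟩)

theorem Tame.powSat_fg (hA : Tame J) (N : Submodule A M) : (powSat J N).FG := by
  obtain ⟨m, p, hp⟩ := Module.Finite.exists_fin' A M
  have h : powSat J (N.comap p) = (powSat J N).comap p := by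
    ext y
    simp only [powSat, Submodule.mem_comap]
    exact exists_congr fun n => forall₂_congr fun a _ => by rw [← map_smul]
  rw [← Submodule.map_comap_eq_of_surjective hp (powSat J N), ← h]
  exact (hA.fg_powSat m _).map p

theorem Tame.exists_pow_smul_le (hA : Tame J) (N : Submodule A M) :
    ∃ n : ℕ, J ^ n • powSat J N ≤ N :=
  exists_pow_smul_le_of_fg J N (hA.powSat_fg N)

omit [Module.Finite A M] in
theorem Tame.of_surjective {A' : Type w} [CommRing A'] (hA : Tame J) (f : A →+* A')
    (hf : Function.Surjective f) (J' : Ideal A') (hJ' : J' = J.map f) : Tame J' := by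
  subst hJ'
  letI : Algebra A A' := f.toAlgebra
  haveI : Module.Finite A A' := Module.Finite.of_surjective (Algebra.linearMap A A') hf
  have hsm : ∀ (a : A) {m : ℕ} (x : Fin m → A'), f a • x = a • x := fun a m x =>
    funext fun i => (Algebra.smul_def a (x i)).symm
  have hmem : ∀ (n : ℕ) (a : A), a ∈ J ^ n → f a ∈ (J.map f) ^ n := fun n a ha =>
    Ideal.map_pow f J n ▸ Ideal.mem_map_of_mem f ha
  refine ⟨hA.fg_ideal.map f, fun m N => ?_, fun m N => ?_⟩
  · obtain ⟨n₀, hn₀⟩ := hA.exists_artinRees (N.restrictScalars A)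
    refine ⟨n₀, fun k x ⟨h1, h2⟩ => ?_⟩
    have e : ∀ (n : ℕ) (P : Submodule A' (Fin m → A')),
        ((J.map f) ^ n • P).restrictScalars A = J ^ n • P.restrictScalars A := by
      intro n P
      rw [← Ideal.map_pow]
      exact Ideal.smul_restrictScalars (S := A') (M := Fin m → A') (J ^ n) P
    have h3 := hn₀ k ⟨(by
      have h5 : x ∈ ((J.map f) ^ (k + n₀) • (⊤ : Submodule A' (Fin m → A'))).restrictScalars A := h1
      rw [e, Submodule.restrictScalars_top] at h5
      exact h5), (h2 : x ∈ N.restrictScalars A)⟩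
    rw [← e] at h3
    exact h3
  · have h : (powSat (J.map f) N).restrictScalars A = powSat J (N.restrictScalars A) := by
      ext x
      refine ⟨fun ⟨n, hn⟩ => ⟨n, fun a ha => ?_⟩, fun ⟨n, hn⟩ => ⟨n, fun b hb => ?_⟩⟩
      · rw [← hsm]
        exact hn _ (hmem n a ha)
      · rw [← Ideal.map_pow, Ideal.mem_map_iff_of_surjective f hf] at hb
        obtain ⟨a, ha, rfl⟩ := hb
        rw [hsm]
        exact hn a ha
    exact Submodule.FG.of_restrictScalars A (h.symm ▸ hA.powSat_fg (N.restrictScalars A))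

theorem Tame.map_injective (hA : Tame J) {N : Type w} [AddCommGroup N] [Module A N] (f : N →ₗ[A] M)
    (hf : Function.Injective f) : Function.Injective (AdicCompletion.map J f) := by
  obtain ⟨n₀, hn₀⟩ := hA.exists_artinRees (LinearMap.range f)
  refine (injective_iff_map_eq_zero _).2 fun x hx => AdicCompletion.ext fun k => ?_
  obtain ⟨y, hy⟩ := Submodule.Quotient.mk_surjective _ (x.val (k + n₀))
  have h1 : f y ∈ J ^ (k + n₀) • (⊤ : Submodule A M) := by
    have h2 := congrArg (fun z => z.val (k + n₀)) hx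
    simp only [AdicCompletion.val_zero, Pi.zero_apply] at h2
    rw [AdicCompletion.map_val_apply, ← hy] at h2
    exact (Submodule.Quotient.mk_eq_zero _).1 h2
  have h3 := hn₀ k ⟨h1, LinearMap.mem_range_self f y⟩
  rw [LinearMap.range_eq_map, ← Submodule.map_smul''] at h3
  obtain ⟨z, hz, hzy⟩ := h3
  rw [hf hzy] at hz
  rw [← x.property (Nat.le_add_right k n₀), ← hy, AdicCompletion.val_zero, Pi.zero_apply]
  exact (Submodule.Quotient.mk_eq_zero _).2 hz

/-- The kernel of `M̂ → (M/N)^` is the image of `Â ⊗ N`, for an arbitrary submodule `N`. -/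
theorem Tame.exists_ofTensorProduct_eq (hA : Tame J) (N : Submodule A M) (x : AdicCompletion J M)
    (hx : ∀ k, ∃ n ∈ N, x.val k = Submodule.Quotient.mk n) :
    ∃ w : AdicCompletion J A ⊗[A] N,
      AdicCompletion.ofTensorProduct J M (N.subtype.lTensor (AdicCompletion J A) w) = x := by
  let P := powSat J N
  haveI : Module.Finite A P := Module.Finite.iff_fg.2 (hA.powSat_fg N)
  obtain ⟨n₀, hn₀⟩ := hA.exists_artinRees P
  obtain ⟨n₁, hn₁⟩ := hA.exists_pow_smul_le N
  choose n hnN hnx using hx
  let q : ℕ → P := fun k => ⟨n (k + n₀), le_powSat J N (hnN _)⟩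
  have hq : ∀ k, q k ≡ q (k + 1) [SMOD (J ^ k • ⊤ : Submodule A P)] := by
    intro k
    have h1 : n (k + n₀) - n (k + 1 + n₀) ∈ J ^ (k + n₀) • (⊤ : Submodule A M) := by
      rw [← Submodule.Quotient.eq, ← hnx (k + n₀), ← x.property (show k + n₀ ≤ k + 1 + n₀ by lia), hnx (k + 1 + n₀)]
      rfl
    have h2 := hn₀ k ⟨h1, P.sub_mem (q k).2 (q (k + 1)).2⟩
    rw [SModEq.sub_mem]
    have h3 : ((q k - q (k + 1) : P) : M) ∈ Submodule.map P.subtype (J ^ k • ⊤) := by
      rw [Submodule.map_smul'', Submodule.map_subtype_top]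
      exact h2
    obtain ⟨z, hz, hzq⟩ := h3
    exact (Subtype.ext hzq : z = q k - q (k + 1)) ▸ hz
  obtain ⟨z, hz⟩ := AdicCompletion.ofTensorProduct_surjective_of_finite J P
    (AdicCompletion.mk J P (AdicCompletion.AdicCauchySequence.mk J P q hq))
  have hxz : AdicCompletion.ofTensorProduct J M (P.subtype.lTensor (AdicCompletion J A) z) = x := by
    have h1 : AdicCompletion.ofTensorProduct J M (P.subtype.lTensor (AdicCompletion J A) z) =
        AdicCompletion.map J P.subtype (AdicCompletion.ofTensorProduct J P z) :=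
      (LinearMap.congr_fun (AdicCompletion.ofTensorProduct_naturality J P.subtype) z).symm
    rw [h1, hz]
    refine AdicCompletion.ext fun k => ?_
    rw [AdicCompletion.map_val_apply, ← x.property (Nat.le_add_right k n₀), hnx (k + n₀)]
    rfl
  let ι : N →ₗ[A] P := Submodule.inclusion (le_powSat J N)
  have hsplit : ∀ z : AdicCompletion J A ⊗[A] P, ∃ (s : P) (w : AdicCompletion J A ⊗[A] N),
      z = (1 : AdicCompletion J A) ⊗ₜ s + ι.lTensor (AdicCompletion J A) w := by
    intro z
    induction z using TensorProduct.induction_on with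
    | zero => exact ⟨0, 0, by simp⟩
    | tmul a p =>
      obtain ⟨s, hs⟩ := Ideal.Quotient.mk_surjective (AdicCompletion.evalₐ J n₁ a)
      have hb : a - algebraMap A (AdicCompletion J A) s ∈
          (J ^ n₁).map (algebraMap A (AdicCompletion J A)) := by
        rw [Ideal.map_pow, ← FSchLib.ker_evalₐ J hA.fg_ideal n₁, RingHom.mem_ker]
        change AdicCompletion.evalₐ _ n₁ (a - algebraMap A (AdicCompletion J A) s) = 0
        rw [map_sub, FSchLib.evalₐ_algebraMap, hs, sub_self]
      have hw : ∀ b ∈ (J ^ n₁).map (algebraMap A (AdicCompletion J A)),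
          ∃ w, b ⊗ₜ[A] p = ι.lTensor (AdicCompletion J A) w := by
        intro b hb
        induction hb using Submodule.span_induction with
        | mem b hb =>
          obtain ⟨j, hj, rfl⟩ := hb
          refine ⟨(1 : AdicCompletion J A) ⊗ₜ ⟨j • (p : M), hn₁ (Submodule.smul_mem_smul hj p.2)⟩, ?_⟩
          rw [LinearMap.lTensor_tmul, Algebra.algebraMap_eq_smul_one, TensorProduct.smul_tmul]
          rfl
        | zero => exact ⟨0, by simp⟩
        | add b c _ _ hb hc =>
          obtain ⟨w, hw⟩ := hb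
          obtain ⟨w', hw'⟩ := hc
          exact ⟨w + w', by rw [TensorProduct.add_tmul, hw, hw', map_add]⟩
        | smul c b _ hb =>
          obtain ⟨w, hw⟩ := hb
          refine ⟨c • w, ?_⟩
          rw [← TensorProduct.smul_tmul', hw]
          exact (LinearMap.map_smul (ι.baseChange (AdicCompletion J A)) c w).symm
      obtain ⟨w, hw⟩ := hw _ hb
      refine ⟨s • p, w, ?_⟩
      rw [← hw, ← TensorProduct.smul_tmul, ← TensorProduct.add_tmul, ← Algebra.algebraMap_eq_smul_one,
        add_sub_cancel]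
    | add x y hx hy =>
      obtain ⟨s, w, rfl⟩ := hx
      obtain ⟨s', w', rfl⟩ := hy
      exact ⟨s + s', w + w', by rw [TensorProduct.tmul_add, map_add]; abel⟩
  obtain ⟨s, w, rfl⟩ := hsplit z
  have hcomp : P.subtype ∘ₗ ι = N.subtype := rfl
  rw [map_add, map_add, LinearMap.lTensor_tmul, ← LinearMap.lTensor_comp_apply, hcomp] at hxz
  have hs : (s : M) ∈ N := by
    have h1 := congrArg (fun y => y.val (n₁ + n₀)) hxz
    simp only [AdicCompletion.val_add, Pi.add_apply] at h1
    rw [AdicCompletion.ofTensorProduct_tmul, one_smul, AdicCompletion.of_apply, hnx (n₁ + n₀)] at h1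
    have hu : ∀ w : AdicCompletion J A ⊗[A] N, ∃ u ∈ N,
        (AdicCompletion.ofTensorProduct J M (N.subtype.lTensor (AdicCompletion J A) w)).val (n₁ + n₀) =
          Submodule.Quotient.mk u := by
      intro w
      induction w using TensorProduct.induction_on with
      | zero => exact ⟨0, N.zero_mem, by simp⟩
      | tmul a p =>
        obtain ⟨a', ha'⟩ := Submodule.Quotient.mk_surjective _ (a.val (n₁ + n₀))
        refine ⟨a' • (p : M), N.smul_mem _ p.2, ?_⟩
        rw [LinearMap.lTensor_tmul, AdicCompletion.ofTensorProduct_tmul, AdicCompletion.smul_eval,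
          ← ha', AdicCompletion.of_apply]
        rfl
      | add x y hx hy =>
        obtain ⟨u, hu, hx⟩ := hx
        obtain ⟨u', hu', hy⟩ := hy
        exact ⟨u + u', N.add_mem hu hu', by rw [map_add, map_add, AdicCompletion.val_add, Pi.add_apply, hx, hy]; rfl⟩
    obtain ⟨u, huN, hu⟩ := hu w
    rw [hu] at h1
    have h2 : (s : M) + u - n (n₁ + n₀) ∈ J ^ (n₁ + n₀) • (⊤ : Submodule A M) :=
      (Submodule.Quotient.eq _).1 h1
    have h3 := hn₀ n₁ ⟨h2, P.sub_mem (P.add_mem s.2 (le_powSat J N huN)) (le_powSat J N (hnN _))⟩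
    simpa using N.sub_mem (N.add_mem (hn₁ h3) (hnN (n₁ + n₀))) huN
  refine ⟨(1 : AdicCompletion J A) ⊗ₜ ⟨s, hs⟩ + w, ?_⟩
  rw [map_add, map_add]
  exact hxz

theorem Tame.ofTensorProduct_bijective (hA : Tame J) :
    Function.Bijective (AdicCompletion.ofTensorProduct J M) := by
  refine ⟨(injective_iff_map_eq_zero _).2 fun z hz => ?_, AdicCompletion.ofTensorProduct_surjective_of_finite J M⟩
  obtain ⟨m, p, hp⟩ := Module.Finite.exists_fin' A M
  obtain ⟨ζ, rfl⟩ := LinearMap.lTensor_surjective (AdicCompletion J A) hp z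
  let x := AdicCompletion.ofTensorProduct J (Fin m → A) ζ
  have hx : AdicCompletion.map J p x = 0 :=
    ((LinearMap.congr_fun (AdicCompletion.ofTensorProduct_naturality J p) ζ)).trans hz
  obtain ⟨w, hw⟩ := hA.exists_ofTensorProduct_eq (LinearMap.ker p) x fun k => by
    obtain ⟨y, hy⟩ := Submodule.Quotient.mk_surjective _ (x.val k)
    have h1 := congrArg (fun v => v.val k) hx
    simp only [AdicCompletion.val_zero, Pi.zero_apply] at h1
    rw [AdicCompletion.map_val_apply, ← hy] at h1
    have h2 : p y ∈ J ^ k • (⊤ : Submodule A M) := (Submodule.Quotient.mk_eq_zero _).1 h1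
    rw [← LinearMap.range_eq_top.2 hp, LinearMap.range_eq_map, ← Submodule.map_smul''] at h2
    obtain ⟨e, he, hpe⟩ := h2
    refine ⟨y - e, by rw [LinearMap.mem_ker, map_sub, hpe, sub_self], ?_⟩
    rw [← hy, Submodule.Quotient.eq]
    simpa using he
  rw [← (AdicCompletion.ofTensorProduct_bijective_of_pi_of_fintype J (Fin m)).1 hw,
    ← LinearMap.lTensor_comp_apply, LinearMap.comp_ker_subtype, LinearMap.lTensor_zero, LinearMap.zero_apply]

theorem Tame.flat_adicCompletion (hA : Tame J) : Module.Flat A (AdicCompletion J A) := by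
  rw [Module.Flat.iff_lTensor_injective]
  intro a ha
  haveI : Module.Finite A a := Module.Finite.iff_fg.2 ha
  have h := (hA.map_injective a.subtype Subtype.val_injective).comp (hA.ofTensorProduct_bijective (M := a)).1
  refine Function.Injective.of_comp (f := AdicCompletion.ofTensorProduct J A) ?_
  convert h using 1
  funext z
  exact (LinearMap.congr_fun (AdicCompletion.ofTensorProduct_naturality J a.subtype) z).symm

/-- Finite modules over a complete tame ring are complete. -/
theorem Tame.isAdicComplete (hA : Tame J) [IsAdicComplete J A] : IsAdicComplete J M := by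
  refine AdicCompletion.of_bijective_iff.1 ?_
  let e : A ≃ₗ[A] AdicCompletion J A := LinearEquiv.ofBijective (AdicCompletion.of J A) (AdicCompletion.of_bijective J A)
  have h : ⇑(AdicCompletion.of J M) = AdicCompletion.ofTensorProduct J M ∘
      ⇑((TensorProduct.lid A M).symm.trans (TensorProduct.congr e (LinearEquiv.refl A M))) := by
    funext x
    simp only [Function.comp_apply, LinearEquiv.trans_apply, TensorProduct.lid_symm_apply,
      TensorProduct.congr_tmul, LinearEquiv.refl_apply, AdicCompletion.ofTensorProduct_tmul]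
    refine AdicCompletion.ext fun k => ?_
    simp [e, AdicCompletion.smul_eval]
    exact (one_smul _ _).symm
  rw [h]
  exact hA.ofTensorProduct_bijective.comp (LinearEquiv.bijective _)

end Groth.Agent.ValTate
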