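import Mathlib.RingTheory.MvPolynomial.Groebner
import Mathlib.RingTheory.MvPolynomial.Ideal
import Mathlib.RingTheory.Polynomial.Basic
import Mathlib.RingTheory.Valuation.ValuationRing
import Mathlib.RingTheory.LocalRing.ResidueField.Basic
import Mathlib.Data.Finsupp.PWO

/-!
# Saturated ideals over valuation rings of height one are finitely generated modulo `t`

If `R` is a valuation ring in which every nonunit has a power divisible by `t`, and `A/tA` is a
polynomial ring over `R/tR`, then for every ideal `N` of `A` which is saturated with respect to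
nonzero constants, `N` is finitely generated modulo `tA`. The proof divides by lifts of a Gröbner
basis of the image of `N` over the residue field, over the ring `R/cR`, where `c` is a nonunit
dividing all the nonunit coefficients of these lifts.
-/

universe u v

namespace Groth.Agent.ValTate

open IsLocalRing MvPolynomial

variable {R : Type u} [CommRing R] [IsDomain R] [ValuationRing R]
  {A : Type v} [CommRing A] [Algebra R A]

theorem exists_fg_le_sup_span (t : R) (ht0 : t ≠ 0) (ht : t ∈ maximalIdeal R)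
    (hrad : ∀ c ∈ maximalIdeal R, ∃ k : ℕ, t ∣ c ^ k) {n : ℕ}
    (π : A →+* MvPolynomial (Fin n) (R ⧸ Ideal.span {t})) (hπs : Function.Surjective π)
    (hπ : ∀ r, π (algebraMap R A r) = C (Ideal.Quotient.mk _ r))
    (hker : RingHom.ker π ≤ Ideal.span {algebraMap R A t})
    (N : Ideal A) (hsat : ∀ (c : R) (a : A), c ≠ 0 → algebraMap R A c * a ∈ N → a ∈ N) :
    ∃ G : Finset A, (G : Set A) ⊆ N ∧ N ≤ Ideal.span G ⊔ Ideal.span {algebraMap R A t} := by
  classical
  let o : MonomialOrder (Fin n) := MonomialOrder.lex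
  let K := ResidueField R
  let q : R ⧸ Ideal.span {t} →+* K := Ideal.Quotient.lift _ (residue R) fun x hx => by
    rw [residue_eq_zero_iff]
    exact (Ideal.span_singleton_le_iff_mem _).2 ht hx
  let red : A →+* MvPolynomial (Fin n) K := (MvPolynomial.map q).comp π
  let L : Set (Fin n →₀ ℕ) := {d | ∃ a ∈ N, red a ≠ 0 ∧ o.degree (red a) = d}
  have hL : L.IsPWO := L.isPWO_of_wellQuasiOrderedLE
  let D : Set (Fin n →₀ ℕ) := {d | Minimal (· ∈ L) d}
  have hDL : D ⊆ L := fun d hd => hd.1
  have hDfin : D.Finite := (setOfPred_minimal_antichain (· ∈ L)).finite_of_partiallyWellOrderedOn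
    (hL.mono hDL)
  haveI : Fintype D := hDfin.fintype
  choose g hgN hg0 hgd using fun e : D => hDL e.2
  obtain ⟨lift, hlift⟩ := (Ideal.Quotient.mk_surjective (I := Ideal.span {t})).hasRightInverse
  let E : Finset R := insert t ((Finset.univ.biUnion fun e : D =>
    (π (g e)).support.image fun j => lift (coeff j (π (g e)))).filter (· ∈ maximalIdeal R))
  obtain ⟨c, hc⟩ := (IsBezout.isPrincipal_of_FG (Ideal.span (E : Set R)) ⟨E, rfl⟩).principal
  have hc' : Ideal.span (E : Set R) = Ideal.span {c} := hc
  have hct : c ∣ t := Ideal.mem_span_singleton.1 (hc' ▸ Ideal.subset_span (Finset.mem_insert_self _ _))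
  have hc0 : c ≠ 0 := fun h => ht0 (zero_dvd_iff.1 (h ▸ hct))
  have hcm : c ∈ maximalIdeal R := by
    have h1 : c ∈ Ideal.span (E : Set R) := hc' ▸ Ideal.mem_span_singleton_self c
    refine Ideal.span_le.2 ?_ h1
    intro x hx
    rcases Finset.mem_insert.1 hx with rfl | hx
    · exact ht
    · exact (Finset.mem_filter.1 hx).2
  let R' := R ⧸ Ideal.span {c}
  let f : R ⧸ Ideal.span {t} →+* R' := Ideal.Quotient.factor (Ideal.span_singleton_le_span_singleton.2 hct)
  let p : D → MvPolynomial (Fin n) R' := fun e => MvPolynomial.map f (π (g e))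
  have hcoef : ∀ (e : D) (j : Fin n →₀ ℕ), (coeff j (p e) = 0 ↔ coeff j (red (g e)) = 0) ∧
      (coeff j (p e) ≠ 0 → IsUnit (coeff j (p e))) := by
    intro e j
    change (coeff j (MvPolynomial.map f (π (g e))) = 0 ↔ coeff j (MvPolynomial.map q (π (g e))) = 0) ∧ _
    simp only [p, MvPolynomial.coeff_map]
    rw [← hlift (coeff j (π (g e)))]
    by_cases hu : IsUnit (lift (coeff j (π (g e))))
    · have h1 := hu.map (Ideal.Quotient.mk (Ideal.span {t}))
      haveI : Nontrivial R' := Ideal.Quotient.nontrivial_iff.2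
        (fun h => (mem_maximalIdeal _).1 hcm (Ideal.span_singleton_eq_top.1 h))
      exact ⟨iff_of_false (h1.map f).ne_zero (h1.map q).ne_zero, fun _ => h1.map f⟩
    · have hm : lift (coeff j (π (g e))) ∈ maximalIdeal R := hu
      have h1 : lift (coeff j (π (g e))) ∈ Ideal.span {c} := by
        by_cases hj : j ∈ (π (g e)).support
        · rw [← hc']
          exact Ideal.subset_span (Finset.mem_insert_of_mem (Finset.mem_filter.2
            ⟨Finset.mem_biUnion.2 ⟨e, Finset.mem_univ _, Finset.mem_image_of_mem _ hj⟩, hm⟩))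
        · have h2 := hlift (coeff j (π (g e)))
          rw [MvPolynomial.notMem_support_iff.1 hj] at h2 ⊢
          exact Ideal.span_singleton_le_span_singleton.2 hct (Ideal.Quotient.eq_zero_iff_mem.1 h2)
      have h2 : f (Ideal.Quotient.mk _ (lift (coeff j (π (g e))))) = 0 :=
        Ideal.Quotient.eq_zero_iff_mem.2 h1
      exact ⟨iff_of_true h2 ((residue_eq_zero_iff _).2 hm), fun h => absurd h2 h⟩
  have hpdeg : ∀ e : D, o.degree (p e) = e.1 := fun e => by
    rw [← hgd e]
    simp only [MonomialOrder.degree]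
    congr 1
    congr 1
    ext j
    simp only [MvPolynomial.mem_support_iff, ne_eq, (hcoef e j).1]
  have hplc : ∀ e : D, IsUnit (o.leadingCoeff (p e)) := fun e => by
    refine (hcoef e (o.degree (p e))).2 ?_
    rw [hpdeg e, ne_eq, (hcoef e e.1).1, ← hgd e]
    exact o.leadingCoeff_ne_zero_iff.2 (hg0 e)
  have hkerc : ∀ x : A, MvPolynomial.map f (π x) = 0 → ∃ w, x = algebraMap R A c * w := by
    intro x hx
    have h1 : π x ∈ Ideal.span {C (Ideal.Quotient.mk (Ideal.span {t}) c)} := by
      have h2 : π x ∈ RingHom.ker (MvPolynomial.map (σ := Fin n) f) := hx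
      have h3 : RingHom.ker f = Ideal.span {Ideal.Quotient.mk (Ideal.span {t}) c} := by
        ext y
        obtain ⟨y, rfl⟩ := Ideal.Quotient.mk_surjective y
        rw [RingHom.mem_ker, show f (Ideal.Quotient.mk _ y) = Ideal.Quotient.mk (Ideal.span {c}) y from rfl,
          Ideal.Quotient.eq_zero_iff_mem, Ideal.mem_span_singleton, Ideal.mem_span_singleton]
        constructor
        · exact fun h => map_dvd _ h
        · rintro ⟨z, hz⟩
          obtain ⟨z, rfl⟩ := Ideal.Quotient.mk_surjective z
          rw [← map_mul, Ideal.Quotient.eq, Ideal.mem_span_singleton] at hz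
          simpa using dvd_add (hct.trans hz) (dvd_mul_right c z)
      rw [MvPolynomial.ker_map, h3, Ideal.map_span, Set.image_singleton] at h2
      exact h2
    obtain ⟨q0, hq0⟩ := Ideal.mem_span_singleton'.1 h1
    obtain ⟨q1, rfl⟩ := hπs q0
    have h3 : x - q1 * algebraMap R A c ∈ RingHom.ker π := by
      rw [RingHom.mem_ker, map_sub, map_mul, hπ, hq0, sub_self]
    obtain ⟨w, hw⟩ := Ideal.mem_span_singleton'.1 (hker h3)
    obtain ⟨v, hv⟩ := hct
    refine ⟨q1 + w * algebraMap R A v, ?_⟩
    rw [hv, map_mul] at hw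
    linear_combination -hw
  have step : ∀ a ∈ N, ∃ w ∈ N, a - algebraMap R A c * w ∈ Ideal.span (Set.range g) := by
    intro a ha
    obtain ⟨h, r, hr, -, hsupp⟩ := o.div hplc (MvPolynomial.map f (π a))
    have hfs : Function.Surjective (MvPolynomial.map (σ := Fin n) f) :=
      MvPolynomial.map_surjective f (Ideal.Quotient.factor_surjective _)
    choose b hb using fun e : D => (hfs.comp hπs) (h e)
    let a1 := a - ∑ e, b e * g e
    have ha1N : a1 ∈ N := N.sub_mem ha (Ideal.sum_mem _ fun e _ => N.mul_mem_left _ (hgN e))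
    have ha1 : MvPolynomial.map f (π a1) = r := by
      have : Finsupp.linearCombination (MvPolynomial (Fin n) R') p h = ∑ e, h e * p e := by
        rw [Finsupp.linearCombination_apply, Finsupp.sum_fintype _ _ fun e => zero_smul _ (p e)]
        rfl
      simp only [a1, map_sub, map_sum, map_mul]
      rw [hr, this]
      simp only [Function.comp_apply] at hb
      simp only [hb, p, add_sub_cancel_left]
    suffices hr0 : r = 0 by
      obtain ⟨w, hw⟩ := hkerc a1 (ha1.trans hr0)
      refine ⟨w, hsat c w hc0 (hw ▸ ha1N), ?_⟩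
      rw [← hw, sub_sub_cancel]
      exact Ideal.sum_mem _ fun e _ => Ideal.mul_mem_left _ _ (Ideal.subset_span ⟨e, rfl⟩)
    by_contra hr0
    obtain ⟨l, hl⟩ := (Ideal.Quotient.mk_surjective (I := Ideal.span {c})).hasRightInverse
    let S : Finset R := r.support.image fun j => l (coeff j r)
    obtain ⟨e0, he0⟩ := (IsBezout.isPrincipal_of_FG (Ideal.span (S : Set R)) ⟨S, rfl⟩).principal
    have he0' : Ideal.span (S : Set R) = Ideal.span {e0} := he0
    have hu : ∀ j : Fin n →₀ ℕ, ∃ u, j ∈ r.support → l (coeff j r) = e0 * u := fun j => by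
      by_cases hj : j ∈ r.support
      · obtain ⟨u, hu⟩ : e0 ∣ l (coeff j r) := Ideal.mem_span_singleton.1
          (he0' ▸ Ideal.subset_span (Finset.mem_image_of_mem _ hj))
        exact ⟨u, fun _ => hu⟩
      · exact ⟨0, fun h => absurd h hj⟩
    choose u hu using hu
    have hce : ¬ c ∣ e0 := fun hd => by
      obtain ⟨j, hj⟩ := MvPolynomial.support_nonempty.2 hr0
      refine MvPolynomial.mem_support_iff.1 hj ?_
      rw [← hl (coeff j r), hu j hj, Ideal.Quotient.eq_zero_iff_mem, Ideal.mem_span_singleton]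
      exact hd.mul_right _
    obtain ⟨v, hv⟩ : e0 ∣ c := (ValuationRing.dvd_total c e0).resolve_left hce
    have hvm : v ∈ maximalIdeal R := fun hvu => hce ⟨((hvu.unit⁻¹ : Rˣ) : R), by rw [hv, mul_assoc, IsUnit.mul_val_inv, mul_one]⟩
    obtain ⟨j0, hj0, hj0u⟩ : ∃ j ∈ r.support, IsUnit (u j) := by
      by_contra hno
      push Not at hno
      have h1 : e0 ∈ Ideal.span {e0} * maximalIdeal R := by
        have h2 : Ideal.span (S : Set R) ≤ Ideal.span {e0} * maximalIdeal R := Ideal.span_le.2 fun x hx => by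
          obtain ⟨j, hj, rfl⟩ := Finset.mem_image.1 hx
          rw [hu j hj]
          exact Ideal.mul_mem_mul (Ideal.mem_span_singleton_self _) (hno j hj)
        exact h2 (he0' ▸ Ideal.mem_span_singleton_self e0)
      obtain ⟨μ, hμ, hμe⟩ := Ideal.mem_span_singleton_mul.1 h1
      rcases mul_eq_zero.1 (show e0 * (1 - μ) = 0 by rw [mul_sub, mul_one, hμe, sub_self]) with h | h
      · exact hce (h ▸ dvd_zero c)
      · exact (mem_maximalIdeal _).1 hμ (sub_eq_zero.1 h ▸ isUnit_one)
    let r1 : MvPolynomial (Fin n) (R ⧸ Ideal.span {t}) :=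
      ∑ j ∈ r.support, monomial j (Ideal.Quotient.mk _ (u j))
    obtain ⟨z, hz⟩ := hπs r1
    have hr1 : MvPolynomial.map f (π (algebraMap R A e0 * z)) = r := by
      rw [map_mul, map_mul, hπ, hz, MvPolynomial.map_C]
      conv_rhs => rw [MvPolynomial.as_sum r]
      simp only [r1, map_sum, MvPolynomial.map_monomial, Finset.mul_sum, MvPolynomial.C_mul_monomial]
      refine Finset.sum_congr rfl fun j hj => ?_
      rw [← map_mul, ← map_mul, ← hu j hj]
      exact congrArg _ (hl (coeff j r))
    obtain ⟨w, hw⟩ := hkerc (a1 - algebraMap R A e0 * z) (by rw [map_sub, map_sub, ha1, hr1, sub_self])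
    let z1 := z + algebraMap R A v * w
    have hz1 : algebraMap R A e0 * z1 = a1 := by
      rw [mul_add, ← mul_assoc, ← map_mul, ← hv, ← hw, add_sub_cancel]
    have hz1N : z1 ∈ N := hsat e0 z1 (fun h => hce (h ▸ dvd_zero c)) (hz1 ▸ ha1N)
    have hred : red z1 = MvPolynomial.map q r1 := by
      simp only [z1, red, RingHom.comp_apply, map_add, map_mul, hπ, hz, MvPolynomial.map_C]
      rw [show q (Ideal.Quotient.mk _ v) = 0 from (residue_eq_zero_iff v).2 hvm, map_zero, zero_mul, add_zero]
    have hsub : (red z1).support ⊆ r.support := fun j hj => by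
      by_contra hjr
      refine MvPolynomial.mem_support_iff.1 hj ?_
      rw [hred]
      simp only [r1, map_sum, MvPolynomial.map_monomial, MvPolynomial.coeff_sum, MvPolynomial.coeff_monomial]
      rw [Finset.sum_ite_eq' r.support j, if_neg hjr]
    have hne : red z1 ≠ 0 := by
      refine MvPolynomial.ne_zero_iff.2 ⟨j0, ?_⟩
      rw [hred]
      simp only [r1, map_sum, MvPolynomial.map_monomial, MvPolynomial.coeff_sum, MvPolynomial.coeff_monomial]
      rw [Finset.sum_ite_eq' r.support j0, if_pos hj0]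
      exact (residue_ne_zero_iff_isUnit _).2 hj0u
    obtain ⟨e, hed, heD⟩ := hL.exists_le_minimal (show o.degree (red z1) ∈ L from ⟨z1, hz1N, hne, rfl⟩)
    exact hsupp _ (hsub ((o.degree_mem_support_iff _).2 hne)) ⟨e, heD⟩ ((hpdeg ⟨e, heD⟩).le.trans hed)
  have iter : ∀ k : ℕ, ∀ a ∈ N, ∃ w ∈ N, a - algebraMap R A c ^ k * w ∈ Ideal.span (Set.range g) := by
    intro k
    induction k with
    | zero => exact fun a ha => ⟨a, ha, by simp⟩
    | succ k ih =>
      intro a ha
      obtain ⟨w, hw, h1⟩ := ih a ha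
      obtain ⟨w', hw', h2⟩ := step w hw
      refine ⟨w', hw', ?_⟩
      convert add_mem h1 (Ideal.mul_mem_left _ (algebraMap R A c ^ k) h2) using 1
      ring
  obtain ⟨k, hk⟩ := hrad c hcm
  refine ⟨Finset.univ.image g, ?_, fun a ha => ?_⟩
  · intro x hx
    obtain ⟨e, -, rfl⟩ := Finset.mem_image.1 (Finset.mem_coe.1 hx)
    exact hgN e
  · obtain ⟨w, -, hw⟩ := iter k a ha
    refine Submodule.mem_sup.2 ⟨_, ?_, algebraMap R A c ^ k * w, ?_, sub_add_cancel _ _⟩
    · simpa using hw
    · obtain ⟨s, hs⟩ := hk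
      rw [← map_pow, hs, map_mul, mul_assoc]
      exact Ideal.mul_mem_right _ _ (Ideal.mem_span_singleton_self _)

end Groth.Agent.ValTate
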