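import Groth.Agent.ValTate.Tame
import Mathlib.RingTheory.MvPolynomial.Homogeneous
import Mathlib.RingTheory.Jacobson.Ideal
import Mathlib.RingTheory.Nakayama

/-!
# Saturated submodules over polynomial rings over restricted power series

By homogenising, saturated submodules of finite free modules over `A[x]` are finitely generated,
for `A` a complete lift of a polynomial ring over `R/tR`, `R` a valuation ring of height one.
-/

universe u v

namespace Groth.Agent.ValTate

open IsLocalRing MvPolynomial

variable {R : Type u} [CommRing R] [IsDomain R] [ValuationRing R] [Ring.KrullDimLE 1 R]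
  {A : Type v} [CommRing A] [Algebra R A]

variable (A) in
/-- Dehomogenisation with respect to the first variable. -/
noncomputable def dehom (p : ℕ) : MvPolynomial (Fin (p + 1)) A →ₐ[A] MvPolynomial (Fin p) A :=
  aeval (Fin.cons 1 X)

omit [Algebra R A] in
theorem exists_homogeneous_dehom_eq {p : ℕ} (f : MvPolynomial (Fin p) A) :
    ∃ d, ∀ d', d ≤ d' → ∃ F : MvPolynomial (Fin (p + 1)) A, F.IsHomogeneous d' ∧ dehom A p F = f := by
  induction f using MvPolynomial.induction_on with
  | C a =>
    refine ⟨0, fun d' _ => ⟨C a * X 0 ^ d', isHomogeneous_C_mul_X_pow a 0 d', ?_⟩⟩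
    simp [dehom]
  | add f g hf hg =>
    obtain ⟨d, hd⟩ := hf
    obtain ⟨e, he⟩ := hg
    refine ⟨max d e, fun d' hd' => ?_⟩
    obtain ⟨F, hF, rfl⟩ := hd d' ((le_max_left _ _).trans hd')
    obtain ⟨G, hG, rfl⟩ := he d' ((le_max_right _ _).trans hd')
    exact ⟨F + G, hF.add hG, map_add _ _ _⟩
  | mul_X f i hf =>
    obtain ⟨d, hd⟩ := hf
    refine ⟨d + 1, fun d' hd' => ?_⟩
    obtain ⟨F, hF, rfl⟩ := hd (d' - 1) (by lia)
    exact ⟨F * X i.succ, (Nat.sub_add_cancel (by lia : 1 ≤ d')) ▸ hF.mul (isHomogeneous_X A i.succ),
      by simp [dehom]⟩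

omit [Algebra R A] in
theorem homogeneousComponent_X_mul {p : ℕ} (i : Fin (p + 1)) (F : MvPolynomial (Fin (p + 1)) A) (d : ℕ) :
    homogeneousComponent (d + 1) (X i * F) = X i * homogeneousComponent d F ∧
      homogeneousComponent 0 (X i * F) = 0 := by
  classical
  have hk : ∀ k, (X i * homogeneousComponent k F).IsHomogeneous (1 + k) := fun k =>
    (isHomogeneous_X A i).mul (homogeneousComponent_isHomogeneous k F)
  conv => arg 1; lhs; rw [← sum_homogeneousComponent F]
  conv => arg 2; lhs; rw [← sum_homogeneousComponent F]
  simp only [Finset.mul_sum, map_sum]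
  refine ⟨?_, Finset.sum_eq_zero fun k _ => by rw [homogeneousComponent_of_mem (hk k), if_neg (by lia)]⟩
  rw [Finset.sum_eq_single d (fun k _ hkd => by rw [homogeneousComponent_of_mem (hk k), if_neg (by lia)])
    fun hd => ?_]
  · rw [homogeneousComponent_of_mem (hk d), if_pos (by lia)]
  · rw [homogeneousComponent_eq_zero (φ := F) (n := d) (by simpa using hd), mul_zero, map_zero]

/-- Saturated submodules of finite free modules over `A[x]` are finitely generated. -/
theorem fg_of_saturated_polynomial (t : R) (ht0 : t ≠ 0) (ht : t ∈ maximalIdeal R) {n : ℕ}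
    (π : A →+* MvPolynomial (Fin n) (R ⧸ Ideal.span {t})) (hπs : Function.Surjective π)
    (hπ : ∀ r, π (algebraMap R A r) = C (Ideal.Quotient.mk _ r))
    (hker : RingHom.ker π ≤ Ideal.span {algebraMap R A t})
    (htf : ∀ (c : R) (a : A), c ≠ 0 → algebraMap R A c * a = 0 → a = 0)
    [IsAdicComplete (Ideal.span {algebraMap R A t}) A]
    {p m : ℕ} (N : Submodule (MvPolynomial (Fin p) A) (Fin m → MvPolynomial (Fin p) A))
    (hsat : Saturated R N) : N.FG := by
  classical
  have hrad : ∀ c ∈ maximalIdeal R, ∃ k : ℕ, t ∣ c ^ k := fun c hc => exists_dvd_pow ht0 hc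
  let Q := MvPolynomial (Fin (p + 1)) A
  let δ : Q →ₐ[A] MvPolynomial (Fin p) A := dehom A p
  let comp : ℕ → (Fin m → Q) →ₗ[A] (Fin m → Q) := fun d => (homogeneousComponent d).compLeft (Fin m)
  let D : (Fin m → Q) →ₗ[A] (Fin m → MvPolynomial (Fin p) A) := δ.toLinearMap.compLeft (Fin m)
  have hDsmul : ∀ (q : Q) (F : Fin m → Q), D (q • F) = δ q • D F := fun q F =>
    funext fun i => map_mul δ q (F i)
  let Nh : Submodule Q (Fin m → Q) :=
    { carrier := {F | ∀ d, D (comp d F) ∈ N}
      zero_mem' := fun d => by simp [N.zero_mem]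
      add_mem' := fun {F G} hF hG d => by rw [map_add, map_add]; exact N.add_mem (hF d) (hG d)
      smul_mem' := fun q F hF d => by
        induction q using MvPolynomial.induction_on generalizing d with
        | C a =>
          have : (C a : Q) • F = a • F := funext fun i => (smul_eq_C_mul (F i) a).symm
          rw [this, map_smul, map_smul]
          exact (IsScalarTower.algebraMap_smul (MvPolynomial (Fin p) A) a (D (comp d F))) ▸ N.smul_mem _ (hF d)
        | add q r hq hr => rw [add_smul, map_add, map_add]; exact N.add_mem (hq d) (hr d)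
        | mul_X q i hq =>
          have e : comp d ((q * X i) • F) =
              if d = 0 then 0 else (X i : Q) • comp (d - 1) (q • F) := by
            funext j
            cases d with
            | zero =>
              change homogeneousComponent 0 (q * X i * F j) = _
              rw [mul_comm q (X i), mul_assoc, (homogeneousComponent_X_mul i _ 0).2]
              rfl
            | succ d =>
              change homogeneousComponent (d + 1) (q * X i * F j) = _
              rw [mul_comm q (X i), mul_assoc, (homogeneousComponent_X_mul i _ d).1]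
              rfl
          rw [e]
          split
          · rw [map_zero]; exact N.zero_mem
          · rw [hDsmul]
            exact N.smul_mem _ (hq (d - 1)) }
  have hsath : Saturated R Nh := fun c F hc hF d => by
    refine hsat c _ hc ?_
    have h1 := hF d
    rw [show algebraMap R Q c • F = algebraMap R A c • F from funext fun i =>
      (smul_eq_C_mul (F i) (algebraMap R A c)).symm, map_smul, map_smul,
      ← IsScalarTower.algebraMap_smul (MvPolynomial (Fin p) A)] at h1
    exact h1
  let ψ : MvPolynomial (Fin (p + 1)) (MvPolynomial (Fin n) (R ⧸ Ideal.span {t})) →+*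
      MvPolynomial (Fin (p + 1 + n)) (R ⧸ Ideal.span {t}) :=
    (rename finSumFinEquiv).toRingHom.comp
      (sumAlgEquiv (R ⧸ Ideal.span {t}) (Fin (p + 1)) (Fin n)).symm.toRingHom
  have hψ : Function.Bijective ψ :=
    (renameEquiv _ finSumFinEquiv).bijective.comp (sumAlgEquiv _ (Fin (p + 1)) (Fin n)).symm.bijective
  let π' := ψ.comp (MvPolynomial.map π)
  have hπ' : ∀ r, π' (algebraMap R Q r) = C (Ideal.Quotient.mk _ r) := fun r => by
    change ψ (MvPolynomial.map π (C (algebraMap R A r))) = _
    rw [map_C, hπ]
    change rename finSumFinEquiv ((sumAlgEquiv _ (Fin (p + 1)) (Fin n)).symm (C (C (Ideal.Quotient.mk _ r)))) = _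
    rw [show (C (C (Ideal.Quotient.mk _ r)) : MvPolynomial (Fin (p + 1)) (MvPolynomial (Fin n) (R ⧸ Ideal.span {t}))) =
      algebraMap (R ⧸ Ideal.span {t}) _ (Ideal.Quotient.mk _ r) from rfl, AlgEquiv.commutes, AlgHom.commutes]
    rfl
  have hker' : RingHom.ker π' ≤ Ideal.span {algebraMap R Q t} := fun P hP => by
    have h1 : P ∈ RingHom.ker (MvPolynomial.map (σ := Fin (p + 1)) π) :=
      hψ.1 (hP.trans (map_zero ψ).symm)
    rw [MvPolynomial.ker_map] at h1
    have h2 := Ideal.map_mono (f := C) hker h1
    rwa [Ideal.map_span, Set.image_singleton] at h2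
  have htfQ : ∀ (c : R) (P : Q), c ≠ 0 → algebraMap R Q c * P = 0 → P = 0 := fun c P hc h0 => by
    refine MvPolynomial.ext _ _ fun e => htf c _ hc ?_
    have h2 := congrArg (coeff e) h0
    rw [MvPolynomial.algebraMap_apply, coeff_C_mul, coeff_zero] at h2
    exact h2
  obtain ⟨G, hGN, hG⟩ := exists_fg_submodule_le_sup t ht0 ht hrad π'
    (hψ.2.comp (MvPolynomial.map_surjective π hπs)) hπ' hker' htfQ Nh hsath
  -- the homogeneous components of the generators
  let deg : (Fin m → Q) → ℕ := fun F => Finset.univ.sup fun i => (F i).totalDegree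
  let H : Finset (Fin m → MvPolynomial (Fin p) A) :=
    G.biUnion fun F => (Finset.range (deg F + 1)).image fun d => D (comp d F)
  have hHN : (H : Set (Fin m → MvPolynomial (Fin p) A)) ⊆ N := by
    intro x hx
    obtain ⟨F, hF, hx⟩ := Finset.mem_biUnion.1 (Finset.mem_coe.1 hx)
    obtain ⟨d, -, rfl⟩ := Finset.mem_image.1 hx
    exact hGN hF d
  have hcompmem : ∀ F ∈ G, ∀ d, D (comp d F) ∈ Submodule.span (MvPolynomial (Fin p) A) (H : Set _) := by
    intro F hF d
    by_cases hd : d ∈ Finset.range (deg F + 1)
    · exact Submodule.subset_span (Finset.mem_coe.2 (Finset.mem_biUnion.2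
        ⟨F, hF, Finset.mem_image_of_mem (fun d => D (comp d F)) hd⟩))
    · have h1 : comp d F = 0 := funext fun i => homogeneousComponent_eq_zero (φ := F i) (n := d)
        (lt_of_le_of_lt (Finset.le_sup (f := fun i => (F i).totalDegree) (Finset.mem_univ i))
          (by simp only [deg, Finset.mem_range] at hd; lia))
      rw [h1, map_zero]
      exact Submodule.zero_mem _
  let Sp := Submodule.span (MvPolynomial (Fin p) A) (H : Set (Fin m → MvPolynomial (Fin p) A))
  have hspan : ∀ F ∈ Submodule.span Q (G : Set (Fin m → Q)), ∀ d, D (comp d F) ∈ Sp := by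
    intro F hF
    induction hF using Submodule.span_induction with
    | mem F hF => exact hcompmem F hF
    | zero => intro d; simp [Submodule.zero_mem]
    | add F G' _ _ hF hG' => intro d; rw [map_add, map_add]; exact add_mem (hF d) (hG' d)
    | smul q F _ hF =>
      intro d
      induction q using MvPolynomial.induction_on generalizing d with
      | C a =>
        have : (C a : Q) • F = a • F := funext fun i => (smul_eq_C_mul (F i) a).symm
        rw [this, map_smul, map_smul, ← IsScalarTower.algebraMap_smul (MvPolynomial (Fin p) A)]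
        exact Submodule.smul_mem _ _ (hF d)
      | add q r hq hr => rw [add_smul, map_add, map_add]; exact add_mem (hq d) (hr d)
      | mul_X q i hq =>
        cases d with
        | zero =>
          have : comp 0 ((q * X i) • F) = 0 := funext fun j => by
            change homogeneousComponent 0 (q * X i * F j) = 0
            rw [mul_comm q (X i), mul_assoc, (homogeneousComponent_X_mul i _ 0).2]
          rw [this, map_zero]
          exact Submodule.zero_mem _
        | succ d =>
          have : comp (d + 1) ((q * X i) • F) = (X i : Q) • comp d (q • F) := funext fun j => by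
            change homogeneousComponent (d + 1) (q * X i * F j) = _
            rw [mul_comm q (X i), mul_assoc, (homogeneousComponent_X_mul i _ d).1]
            rfl
          rw [this, hDsmul]
          exact Submodule.smul_mem _ _ (hq d)
  have hAtame : Tame (Ideal.span {algebraMap R A t}) := tame_of_saturated_fg t ht0 ht fun m' N' hN' =>
    fg_of_saturated t ht0 ht hrad π hπs hπ hker htf N' hN'
  -- each degree
  refine ⟨H, le_antisymm (Submodule.span_le.2 hHN) fun x hx => ?_⟩
  obtain ⟨e, he⟩ : ∃ e : Fin m → ℕ, ∀ i, ∀ d', e i ≤ d' →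
      ∃ F : Q, F.IsHomogeneous d' ∧ δ F = x i :=
    ⟨fun i => (exists_homogeneous_dehom_eq (x i)).choose, fun i => (exists_homogeneous_dehom_eq (x i)).choose_spec⟩
  let d := Finset.univ.sup e
  choose F hF hFx using fun i => he i d (Finset.le_sup (Finset.mem_univ i))
  let Hd : Submodule A Q := homogeneousSubmodule (Fin (p + 1)) A d
  haveI : Module.Finite A Hd := Module.Finite.iff_fg.2 (homogeneousSubmodule_fg (Fin (p + 1)) A d)
  let ι : (Fin m → Hd) →ₗ[A] (Fin m → Q) := Hd.subtype.compLeft (Fin m)
  have hι : ∀ y : Fin m → Hd, comp d (ι y) = ι y := fun y =>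
    funext fun i => homogeneousComponent_eq_self (y i).2
  let V : Submodule A (Fin m → Hd) := (N.restrictScalars A).comap (D.comp ι)
  let W : Submodule A (Fin m → Hd) := (Sp.restrictScalars A).comap (D.comp ι)
  have hV : V.FG := by
    have hsV : powSat (Ideal.span {algebraMap R A t}) V = V := by
      refine le_antisymm (fun y ⟨k, hk⟩ => ?_) (le_powSat _ V)
      refine hsat (t ^ k) _ (pow_ne_zero k ht0) ?_
      have h1 := hk (algebraMap R A t ^ k) (Ideal.pow_mem_pow (Ideal.mem_span_singleton_self _) k)
      change D (ι (algebraMap R A t ^ k • y)) ∈ N at h1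
      rwa [map_smul, map_smul, ← IsScalarTower.algebraMap_smul (MvPolynomial (Fin p) A), ← map_pow,
        ← IsScalarTower.algebraMap_apply] at h1
    exact hsV ▸ hAtame.powSat_fg V
  have hVW : V ≤ W ⊔ Ideal.span {algebraMap R A t} • V := by
    intro y hy
    have hy' : ι y ∈ Nh := fun d' => by
      by_cases hdd : d' = d
      · subst hdd; rw [hι]; exact hy
      · have : comp d' (ι y) = 0 := funext fun i => by
          change homogeneousComponent d' ((y i : Hd) : Q) = 0
          rw [homogeneousComponent_of_mem (y i).2, if_neg hdd]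
        rw [this, map_zero]; exact N.zero_mem
    obtain ⟨u, hu, z, huz⟩ := hG _ hy'
    let u' : Fin m → Hd := fun i => ⟨comp d u i, homogeneousComponent_mem d (u i)⟩
    let z' : Fin m → Hd := fun i => ⟨comp d z i, homogeneousComponent_mem d (z i)⟩
    have hyz : y = u' + algebraMap R A t • z' := by
      have h1 := congrArg (comp d) huz
      rw [hι, map_add, show algebraMap R Q t • z = algebraMap R A t • z from funext fun i =>
        (smul_eq_C_mul (z i) (algebraMap R A t)).symm, map_smul] at h1
      funext i
      exact Subtype.ext (congrFun h1 i)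
    have hu' : u' ∈ W := hspan u hu d
    have hz' : z' ∈ V := by
      refine hsat t (D (ι z')) ht0 ?_
      have h2 : algebraMap R A t • z' ∈ V := by
        rw [eq_sub_of_add_eq' hyz.symm]
        exact V.sub_mem hy (Submodule.span_le.2 hHN hu')
      change D (ι (algebraMap R A t • z')) ∈ N at h2
      rwa [map_smul, map_smul, ← IsScalarTower.algebraMap_smul (MvPolynomial (Fin p) A),
        ← IsScalarTower.algebraMap_apply] at h2
    rw [hyz]
    exact Submodule.add_mem_sup hu' (Submodule.smul_mem_smul (Ideal.mem_span_singleton_self _) hz')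
  have hle : V ≤ W := Submodule.le_of_le_smul_of_le_jacobson_bot hV (IsAdicComplete.le_jacobson_bot _) hVW
  have hxV : (fun i => (⟨F i, hF i⟩ : Hd)) ∈ V := by
    change D F ∈ N
    rw [show D F = x from funext hFx]
    exact hx
  have := hle hxV
  change D F ∈ Sp at this
  rwa [show D F = x from funext hFx] at this

end Groth.Agent.ValTate
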