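import Groth.Agent.ValTate.Core
import Mathlib.RingTheory.AdicCompletion.Basic
import Mathlib.RingTheory.KrullDimension.Basic
import Mathlib.RingTheory.Finiteness.Basic

/-!
# Saturated submodules of free modules over restricted power series over valuation rings

The ideal theorem of `Core` extended to submodules of finite free modules, and, for a `t`-adically
complete ring, to finite generation.
-/

universe u v

namespace Groth.Agent.ValTate

open IsLocalRing MvPolynomial

variable {R : Type u} [CommRing R] [IsDomain R] [ValuationRing R]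

/-- In a valuation ring of height at most one every element of the maximal ideal has a power
divisible by any given nonzero element. -/
theorem exists_dvd_pow [Ring.KrullDimLE 1 R] {c d : R} (hc : c ≠ 0) (hd : d ∈ maximalIdeal R) :
    ∃ k : ℕ, c ∣ d ^ k := by
  have : d ∈ (Ideal.span {c}).radical := by
    rw [Ideal.radical_eq_sInf]
    refine Submodule.mem_sInf.2 fun P ⟨hcP, hP⟩ => ?_
    have hP0 : P ≠ ⊥ := fun h => hc ((Submodule.mem_bot R).1 (h ▸ hcP (Ideal.mem_span_singleton_self c)))
    have hmax : Ideal.IsMaximal P := Ideal.IsPrime.isMaximal_of_ne_bot hP hP0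
    exact (IsLocalRing.eq_maximalIdeal hmax) ▸ hd
  obtain ⟨k, hk⟩ := this
  exact ⟨k, Ideal.mem_span_singleton.1 hk⟩

variable {A : Type v} [CommRing A] [Algebra R A]

section
variable (R) {M : Type*} [AddCommGroup M] [Module A M]

/-- A submodule is saturated if it contains `x` whenever it contains a nonzero multiple of `x`. -/
def Saturated (N : Submodule A M) : Prop :=
  ∀ (c : R) (x : M), c ≠ 0 → algebraMap R A c • x ∈ N → x ∈ N

/-- The saturation of a submodule. -/
def saturation (N : Submodule A M) : Submodule A M where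
  carrier := {x | ∃ c : R, c ≠ 0 ∧ algebraMap R A c • x ∈ N}
  zero_mem' := ⟨1, one_ne_zero, by simp⟩
  add_mem' := by
    rintro x y ⟨a, ha, hx⟩ ⟨b, hb, hy⟩
    refine ⟨a * b, mul_ne_zero ha hb, ?_⟩
    rw [smul_add, map_mul, mul_smul, mul_smul, smul_comm (algebraMap R A a) (algebraMap R A b) x]
    exact N.add_mem (N.smul_mem _ hx) (N.smul_mem _ hy)
  smul_mem' := by
    rintro r x ⟨a, ha, hx⟩
    exact ⟨a, ha, (smul_comm (algebraMap R A a) r x).symm ▸ N.smul_mem r hx⟩

theorem le_saturation (N : Submodule A M) : N ≤ saturation R N :=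
  fun x hx => ⟨1, one_ne_zero, by simpa using hx⟩

theorem saturated_saturation (N : Submodule A M) : Saturated R (saturation R N) := by
  rintro c x hc ⟨d, hd, hx⟩
  exact ⟨d * c, mul_ne_zero hd hc, by rwa [map_mul, mul_smul]⟩

end

/-- The linear part of a polynomial. -/
noncomputable def linPart {m : ℕ} (P : MvPolynomial (Fin m) A) : Fin m → A :=
  fun i => coeff (Finsupp.single i 1) P

omit [Algebra R A] in
theorem linPart_mul {m : ℕ} (P Q : MvPolynomial (Fin m) A) :
    linPart (P * Q) = constantCoeff P • linPart Q + constantCoeff Q • linPart P := by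
  classical
  funext i
  simp only [linPart, Pi.add_apply, Pi.smul_apply, smul_eq_mul]
  rw [coeff_mul, Finsupp.antidiagonal_single]
  rw [show Finset.antidiagonal (1 : ℕ) = {(0, 1), (1, 0)} from rfl]
  simp [Finset.map_insert, constantCoeff_eq]
  ring

theorem exists_fg_submodule_le_sup (t : R) (ht0 : t ≠ 0) (ht : t ∈ maximalIdeal R)
    (hrad : ∀ c ∈ maximalIdeal R, ∃ k : ℕ, t ∣ c ^ k) {n : ℕ}
    (π : A →+* MvPolynomial (Fin n) (R ⧸ Ideal.span {t})) (hπs : Function.Surjective π)
    (hπ : ∀ r, π (algebraMap R A r) = C (Ideal.Quotient.mk _ r))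
    (hker : RingHom.ker π ≤ Ideal.span {algebraMap R A t})
    (htf : ∀ (c : R) (a : A), c ≠ 0 → algebraMap R A c * a = 0 → a = 0)
    {m : ℕ} (N : Submodule A (Fin m → A)) (hsat : Saturated R N) :
    ∃ G : Finset (Fin m → A), (G : Set (Fin m → A)) ⊆ N ∧
      ∀ x ∈ N, ∃ y ∈ Submodule.span A (G : Set (Fin m → A)), ∃ z, x = y + algebraMap R A t • z := by
  classical
  let ψ : MvPolynomial (Fin m) (MvPolynomial (Fin n) (R ⧸ Ideal.span {t})) →+*
      MvPolynomial (Fin (m + n)) (R ⧸ Ideal.span {t}) :=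
    (rename finSumFinEquiv).toRingHom.comp (sumAlgEquiv (R ⧸ Ideal.span {t}) (Fin m) (Fin n)).symm.toRingHom
  have hψ : Function.Bijective ψ :=
    (renameEquiv _ finSumFinEquiv).bijective.comp (sumAlgEquiv _ (Fin m) (Fin n)).symm.bijective
  let π' := ψ.comp (MvPolynomial.map π)
  have hπ' : ∀ r, π' (algebraMap R (MvPolynomial (Fin m) A) r) = C (Ideal.Quotient.mk _ r) := fun r => by
    change ψ (MvPolynomial.map π (C (algebraMap R A r))) = _
    rw [map_C, hπ]
    change rename finSumFinEquiv ((sumAlgEquiv _ (Fin m) (Fin n)).symm (C (C (Ideal.Quotient.mk _ r)))) = _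
    rw [show (C (C (Ideal.Quotient.mk _ r)) : MvPolynomial (Fin m) (MvPolynomial (Fin n) (R ⧸ Ideal.span {t}))) =
      algebraMap (R ⧸ Ideal.span {t}) _ (Ideal.Quotient.mk _ r) from rfl, AlgEquiv.commutes, AlgHom.commutes]
    rfl
  have hker' : RingHom.ker π' ≤ Ideal.span {algebraMap R (MvPolynomial (Fin m) A) t} := fun P hP => by
    have h1 : P ∈ RingHom.ker (MvPolynomial.map (σ := Fin m) π) :=
      hψ.1 (hP.trans (map_zero ψ).symm)
    rw [MvPolynomial.ker_map] at h1
    have h2 := Ideal.map_mono (f := C) hker h1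
    rwa [Ideal.map_span, Set.image_singleton] at h2
  let N' : Ideal (MvPolynomial (Fin m) A) :=
    { carrier := {P | constantCoeff P = 0 ∧ linPart P ∈ N}
      zero_mem' := ⟨map_zero _, (show linPart 0 = (0 : Fin m → A) from funext fun i => coeff_zero _) ▸ N.zero_mem⟩
      add_mem' := by
        rintro P Q ⟨hP, hP'⟩ ⟨hQ, hQ'⟩
        refine ⟨by rw [map_add, hP, hQ, add_zero], ?_⟩
        have : linPart (P + Q) = linPart P + linPart Q := funext fun i => coeff_add _ _ _
        exact this ▸ N.add_mem hP' hQ'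
      smul_mem' := by
        rintro Q P ⟨hP, hP'⟩
        refine ⟨by rw [smul_eq_mul, map_mul, hP, mul_zero], ?_⟩
        rw [smul_eq_mul, linPart_mul, hP, zero_smul, add_zero]
        exact N.smul_mem _ hP' }
  have hsat' : ∀ (c : R) (P : MvPolynomial (Fin m) A), c ≠ 0 →
      algebraMap R (MvPolynomial (Fin m) A) c * P ∈ N' → P ∈ N' := by
    rintro c P hc ⟨h0, h1⟩
    refine ⟨htf c _ hc ?_, hsat c _ hc ?_⟩
    · rwa [MvPolynomial.algebraMap_apply, map_mul, constantCoeff_C] at h0
    · have : linPart (algebraMap R (MvPolynomial (Fin m) A) c * P) = algebraMap R A c • linPart P := by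
        funext i
        simp [linPart, MvPolynomial.algebraMap_apply]
      rwa [this] at h1
  obtain ⟨G, hGN, hG⟩ := exists_fg_le_sup_span t ht0 ht hrad π'
    (hψ.2.comp (MvPolynomial.map_surjective π hπs)) hπ' hker' N' hsat'
  refine ⟨G.image linPart, ?_, fun x hx => ?_⟩
  · intro y hy
    obtain ⟨P, hP, rfl⟩ := Finset.mem_image.1 (Finset.mem_coe.1 hy)
    exact (hGN hP).2
  let F : MvPolynomial (Fin m) A := ∑ i, C (x i) * X i
  have hFl : linPart F = x := by
    funext i
    simp only [linPart, F, coeff_sum, coeff_C_mul, coeff_X']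
    simp [Finsupp.single_left_inj one_ne_zero]
  have hF : F ∈ N' := ⟨by simp [F], hFl.symm ▸ hx⟩
  obtain ⟨P, hP, Q, hQ, hPQ⟩ := Submodule.mem_sup.1 (hG hF)
  obtain ⟨W, rfl⟩ := Ideal.mem_span_singleton'.1 hQ
  refine ⟨linPart P, ?_, linPart W, ?_⟩
  · clear hPQ
    have hspan : constantCoeff P = 0 ∧
        linPart P ∈ Submodule.span A ((G.image linPart : Finset (Fin m → A)) : Set (Fin m → A)) := by
      induction hP using Submodule.span_induction with
      | mem P hP => exact ⟨(hGN hP).1, Submodule.subset_span (Finset.mem_coe.2 (Finset.mem_image_of_mem _ hP))⟩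
      | zero => exact ⟨map_zero _, (show linPart 0 = (0 : Fin m → A) from funext fun i => coeff_zero _) ▸ Submodule.zero_mem _⟩
      | add P Q _ _ hP hQ =>
        refine ⟨by rw [map_add, hP.1, hQ.1, add_zero], ?_⟩
        have : linPart (P + Q) = linPart P + linPart Q := funext fun i => coeff_add _ _ _
        exact this ▸ add_mem hP.2 hQ.2
      | smul Q P _ hP =>
        refine ⟨by rw [smul_eq_mul, map_mul, hP.1, mul_zero], ?_⟩
        rw [smul_eq_mul, linPart_mul, hP.1, zero_smul, add_zero]
        exact Submodule.smul_mem _ _ hP.2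
    exact hspan.2
  · rw [← hFl, ← hPQ]
    funext i
    simp only [linPart, MvPolynomial.algebraMap_apply, Pi.add_apply, Pi.smul_apply, smul_eq_mul, coeff_add]
    rw [mul_comm W, coeff_C_mul]

theorem exists_eq_pow_smul {m : ℕ} (t : A) (N : Submodule A (Fin m → A)) {ι : Type*} [Fintype ι] (g : ι → Fin m → A)
    (hstep : ∀ x ∈ N, ∃ a : ι → A, ∃ z ∈ N, x = (∑ i, a i • g i) + t • z) (x : Fin m → A) (hx : x ∈ N) :
    ∃ (a : ℕ → ι → A), ∀ k, ∃ z ∈ N,
      x = (∑ i, (∑ j ∈ Finset.range k, t ^ j * a j i) • g i) + t ^ k • z := by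
  choose a z hzN hz using fun y : N => hstep y.1 y.2
  let w : ℕ → N := fun k => Nat.rec ⟨x, hx⟩ (fun _ y => ⟨z y, hzN y⟩) k
  refine ⟨fun k => a (w k), fun k => ⟨(w k).1, (w k).2, ?_⟩⟩
  induction k with
  | zero => simp [w]
  | succ k ih =>
    conv_lhs => rw [ih, hz (w k)]
    simp only [Finset.sum_range_succ, add_smul, Finset.sum_add_distrib, smul_add, Finset.smul_sum,
      smul_smul, pow_succ]
    rw [add_assoc]

/-- Over a `t`-adically complete ring, a submodule generated modulo `t` by finitely many of its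
elements, and saturated, is finitely generated. -/
theorem fg_of_forall_eq_add_smul {m : ℕ} (t : A) [IsAdicComplete (Ideal.span {t}) A]
    (N : Submodule A (Fin m → A)) {ι : Type*} [Fintype ι] (g : ι → Fin m → A) (hg : ∀ i, g i ∈ N)
    (hstep : ∀ x ∈ N, ∃ a : ι → A, ∃ z ∈ N, x = (∑ i, a i • g i) + t • z) : N.FG := by
  classical
  refine ⟨Finset.univ.image g, le_antisymm (Submodule.span_le.2 ?_) fun x hx => ?_⟩
  · intro y hy
    obtain ⟨i, -, rfl⟩ := Finset.mem_image.1 (Finset.mem_coe.1 hy)
    exact hg i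
  obtain ⟨a, ha⟩ := exists_eq_pow_smul t N g hstep x hx
  have hcau : ∀ i, ∀ {p q : ℕ}, p ≤ q → (∑ j ∈ Finset.range p, t ^ j * a j i) ≡
      (∑ j ∈ Finset.range q, t ^ j * a j i) [SMOD (Ideal.span {t} ^ p • ⊤ : Submodule A A)] := by
    intro i p q hpq
    rw [SModEq.sub_mem, smul_eq_mul, Ideal.mul_top, Ideal.span_singleton_pow, Ideal.mem_span_singleton,
      ← neg_sub, dvd_neg, ← Finset.sum_Ico_eq_sub _ hpq]
    exact Finset.dvd_sum fun j hj => (pow_dvd_pow t (Finset.mem_Ico.1 hj).1).mul_right _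
  choose L hL using fun i => IsPrecomplete.prec' (I := Ideal.span {t}) _ (@hcau i)
  have hxL : x = ∑ i, L i • g i := by
    funext j
    refine sub_eq_zero.1 (IsHausdorff.haus' (I := Ideal.span {t}) (x j - (∑ i, L i • g i) j) fun k => ?_)
    obtain ⟨z, -, hz⟩ := ha k
    rw [SModEq.zero, smul_eq_mul, Ideal.mul_top, Ideal.span_singleton_pow]
    rw [hz]
    simp only [Pi.add_apply, Finset.sum_apply, Pi.smul_apply, smul_eq_mul]
    rw [add_sub_right_comm, ← Finset.sum_sub_distrib]
    refine Ideal.add_mem _ (Ideal.sum_mem _ fun i _ => ?_)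
      (Ideal.mul_mem_right _ _ (Ideal.mem_span_singleton_self _))
    rw [← sub_mul]
    refine Ideal.mul_mem_right _ _ ?_
    have h1 := hL i k
    rwa [SModEq.sub_mem, smul_eq_mul, Ideal.mul_top, Ideal.span_singleton_pow] at h1
  rw [hxL]
  exact Submodule.sum_mem _ fun i _ =>
    Submodule.smul_mem _ _ (Submodule.subset_span (Finset.mem_coe.2 (Finset.mem_image_of_mem g (Finset.mem_univ i))))

/-- Saturated submodules of finite free modules over a complete lift of a polynomial ring are
finitely generated. -/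
theorem fg_of_saturated (t : R) (ht0 : t ≠ 0) (ht : t ∈ maximalIdeal R)
    (hrad : ∀ c ∈ maximalIdeal R, ∃ k : ℕ, t ∣ c ^ k) {n : ℕ}
    (π : A →+* MvPolynomial (Fin n) (R ⧸ Ideal.span {t})) (hπs : Function.Surjective π)
    (hπ : ∀ r, π (algebraMap R A r) = C (Ideal.Quotient.mk _ r))
    (hker : RingHom.ker π ≤ Ideal.span {algebraMap R A t})
    (htf : ∀ (c : R) (a : A), c ≠ 0 → algebraMap R A c * a = 0 → a = 0)
    [IsAdicComplete (Ideal.span {algebraMap R A t}) A]
    {m : ℕ} (N : Submodule A (Fin m → A)) (hsat : Saturated R N) : N.FG := by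
  classical
  obtain ⟨G, hGN, hG⟩ := exists_fg_submodule_le_sup t ht0 ht hrad π hπs hπ hker htf N hsat
  refine fg_of_forall_eq_add_smul (algebraMap R A t) N (fun g : G => g.1) (fun g => hGN g.2) fun x hx => ?_
  obtain ⟨y, hy, z, rfl⟩ := hG x hx
  obtain ⟨a, ha⟩ := Submodule.mem_span_finset'.1 hy
  have hyN : y ∈ N := Submodule.span_le.2 hGN hy
  exact ⟨a, z, hsat t z ht0 (by simpa using N.sub_mem hx hyN), by rw [ha]⟩

end Groth.Agent.ValTate
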